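import Cfsg.Agent.GTwoFusion.Shape
import Cfsg.Agent.Invol.ThompsonTransfer
import Cfsg.Agent.ZStar.Final

/-!
The classes of involutions of a simple group with a Sylow 2-subgroup shaped like that of `G₂(q)`,
`q` odd.

No involution outside the homocyclic part `T` can be conjugate to the central involution `z` unless
the other involutions of `T` are: an extremal conjugation would send a square root of `z` to a
square root of a conjugate of `z` outside `T`, while all squares lie in `T`. Transfer then leaves two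
classes, and a count of fixed points on the cosets of the Sylow subgroup merges them when the order
exceeds 64.
-/

set_option autoImplicit false
set_option linter.unusedSectionVars false
set_option linter.style.haveILetI false

namespace CfsgLib.GTwoFusion

open Subgroup

universe u

variable {G : Type u} [Group G] [Finite G] {P : Sylow 2 G} {d : ℕ} (D : Shape (P : Subgroup G) d)

namespace Shape

/-- The central involution. -/
def z : G := D.t D.h D.h

/-- A non-central involution of the homocyclic part. -/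
def a : G := D.t D.h 0

theorem z_mem : D.z ∈ (P : Subgroup G) := D.t_mem _ _

theorem z_ne : D.z ≠ 1 := fun e => D.h_ne (D.t_eq_one_iff.1 e).1

theorem orderOf_z : orderOf D.z = 2 := by
  refine orderOf_eq_prime ?_ D.z_ne
  rw [pow_two, z, D.t_mul, D.h_add_h, D.t_zero]

theorem z_comm {g : G} (hg : g ∈ (P : Subgroup G)) : D.z * g = g * D.z := by
  have ht : ∀ i j, D.z * D.t i j = D.t i j * D.z := fun i j => by
    rw [z, D.t_mul, D.t_mul, add_comm D.h, add_comm D.h]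
  have hs : D.z * D.s = D.s * D.z := by rw [z, D.s_t]
  have hw : D.z * D.w = D.w * D.z := by rw [z, D.w_t, D.neg_h]
  rcases D.cases hg with ⟨i, j, rfl⟩ | ⟨i, j, rfl⟩ | ⟨i, j, rfl⟩ | ⟨i, j, rfl⟩
  · exact ht i j
  · exact Commute.mul_right (ht i j) hs
  · exact Commute.mul_right (ht i j) hw
  · exact Commute.mul_right (ht i j) (Commute.mul_right hs hw)

theorem isConj_a_b : IsConj D.a (D.t 0 D.h) :=
  isConj_iff.2 ⟨D.s, by rw [a, D.s_t, mul_inv_cancel_right]⟩

theorem sq_ts (i j) : D.t i j * D.s * (D.t i j * D.s) = D.t (i + j) (j + i) := by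
  simp only [mul_assoc, D.s_t_assoc, D.s_sq, mul_one, D.t_mul]

theorem sq_tw (i j) : D.t i j * D.w * (D.t i j * D.w) = 1 := by
  simp only [mul_assoc, D.w_t_assoc, D.w_sq, mul_one, D.t_mul, add_neg_cancel, D.t_zero]

theorem sq_tsw (i j) : D.t i j * (D.s * D.w) * (D.t i j * (D.s * D.w)) = D.t (i - j) (j - i) := by
  simp only [mul_assoc, D.w_t_assoc, D.s_t_assoc, D.ws_assoc, D.w_sq, D.s_sq, mul_one, D.t_mul]
  rw [sub_eq_add_neg, sub_eq_add_neg]

theorem sq_mem_t {g : G} (hg : g ∈ (P : Subgroup G)) : ∃ i j, g * g = D.t i j := by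
  rcases D.cases hg with ⟨i, j, rfl⟩ | ⟨i, j, rfl⟩ | ⟨i, j, rfl⟩ | ⟨i, j, rfl⟩
  · exact ⟨_, _, D.t_mul i j i j⟩
  · exact ⟨_, _, D.sq_ts i j⟩
  · exact ⟨0, 0, by rw [D.sq_tw, D.t_zero]⟩
  · exact ⟨_, _, D.sq_tsw i j⟩

/-- Involutions of the homocyclic part. -/
theorem invol_t {i j} (h1 : D.t i j ≠ 1) (h2 : D.t i j * D.t i j = 1) :
    D.t i j = D.z ∨ D.t i j = D.a ∨ D.t i j = D.t 0 D.h := by
  rw [D.t_mul, D.t_eq_one_iff] at h2
  rcases D.two_cases h2.1 with rfl | rfl <;> rcases D.two_cases h2.2 with rfl | rfl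
  · exact absurd D.t_zero h1
  · exact Or.inr (Or.inr rfl)
  · exact Or.inr (Or.inl rfl)
  · exact Or.inl rfl

theorem conj_ts (i) : IsConj D.s (D.t i (-i) * D.s) :=
  isConj_iff.2 ⟨D.t i 0, by
    rw [D.t_inv, mul_assoc, D.s_t, D.t_t_assoc, neg_zero, add_zero, zero_add]⟩

theorem conj_tsw (i) : IsConj (D.s * D.w) (D.t i i * (D.s * D.w)) :=
  isConj_iff.2 ⟨D.t i 0, by
    rw [D.t_inv, mul_assoc, D.sw_mul_t, D.t_t_assoc, neg_zero, neg_zero, neg_neg, add_zero,
      zero_add]⟩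

theorem conj_tw (p r k l) : IsConj (D.t p r * D.w) (D.t (p + (k + k)) (r + (l + l)) * D.w) :=
  isConj_iff.2 ⟨D.t k l, by
    rw [D.t_inv, D.t_t_assoc, mul_assoc, D.w_t, D.t_t_assoc, neg_neg, neg_neg,
      show k + p + k = p + (k + k) by ring, show l + r + l = r + (l + l) by ring]⟩

/-- The classes of `T w`. -/
theorem tw_cases (p r) : (D.par p = D.par r ∧
      (IsConj D.w (D.t p r * D.w) ∨ IsConj (D.t 1 1 * D.w) (D.t p r * D.w))) ∨
    D.par p ≠ D.par r ∧ IsConj (D.t 1 0 * D.w) (D.t p r * D.w) := by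
  rcases D.exists_half p with ⟨hp, k, rfl⟩ | ⟨hp, k, rfl⟩ <;>
    rcases D.exists_half r with ⟨hr, l, rfl⟩ | ⟨hr, l, rfl⟩
  · refine Or.inl ⟨hp.trans hr.symm, Or.inl ?_⟩
    simpa [D.t_zero] using D.conj_tw 0 0 k l
  · refine Or.inr ⟨by rw [hp, hr]; decide, ?_⟩
    have h : IsConj (D.t 1 0 * D.w) (D.t 0 1 * D.w) :=
      isConj_iff.2 ⟨D.s, by rw [D.s_t_assoc, ← D.sw, ← mul_assoc, mul_inv_cancel_right]⟩
    exact h.trans (by simpa using D.conj_tw 0 1 k l)
  · exact Or.inr ⟨by rw [hp, hr]; decide, by simpa using D.conj_tw 1 0 k l⟩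
  · exact Or.inl ⟨hp.trans hr.symm, Or.inr (D.conj_tw 1 1 k l)⟩

/-- The normal forms of the involutions. -/
theorem invol_cases {g : G} (hg : g ∈ (P : Subgroup G)) (h1 : g ≠ 1) (h2 : g * g = 1) :
    g = D.z ∨ g = D.a ∨ g = D.t 0 D.h ∨ (∃ i, g = D.t i (-i) * D.s) ∨
      (∃ p r, g = D.t p r * D.w) ∨ ∃ i, g = D.t i i * (D.s * D.w) := by
  rcases D.cases hg with ⟨i, j, rfl⟩ | ⟨i, j, rfl⟩ | ⟨i, j, rfl⟩ | ⟨i, j, rfl⟩
  · rcases D.invol_t h1 h2 with h | h | h
    exacts [Or.inl h, Or.inr (Or.inl h), Or.inr (Or.inr (Or.inl h))]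
  · rw [D.sq_ts, D.t_eq_one_iff] at h2
    exact Or.inr (Or.inr (Or.inr (Or.inl ⟨i, by rw [eq_neg_of_add_eq_zero_right h2.1]⟩)))
  · exact Or.inr (Or.inr (Or.inr (Or.inr (Or.inl ⟨i, j, rfl⟩))))
  · rw [D.sq_tsw, D.t_eq_one_iff] at h2
    exact Or.inr (Or.inr (Or.inr (Or.inr (Or.inr ⟨i, by rw [← sub_eq_zero.1 h2.1]⟩))))

/-- An extremal conjugation onto the central involution. -/
theorem exists_move {y : G} (hy : IsConj D.z y) :
    ∃ g : G, g * y * g⁻¹ = D.z ∧
      ∀ c ∈ (P : Subgroup G), c * y = y * c → g * c * g⁻¹ ∈ (P : Subgroup G) := by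
  obtain ⟨g₀, hg₀⟩ := isConj_iff.1 hy.symm
  set C := centralizer ({D.z} : Set G) with hC
  have hPC : (P : Subgroup G) ≤ C := fun g hg => mem_centralizer_singleton_iff.2 (D.z_comm hg).symm
  set K := (((P : Subgroup G) ⊓ centralizer ({y} : Set G))).map (MulAut.conj g₀).toMonoidHom
    with hK
  have hKp : IsPGroup 2 K := (P.isPGroup'.to_le inf_le_left).map _
  have hKC : K ≤ C := by
    rintro _ ⟨c, hc, rfl⟩
    refine mem_centralizer_singleton_iff.2 ?_
    have h := mem_centralizer_singleton_iff.1 (mem_inf.1 hc).2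
    simp only [MulEquiv.coe_toMonoidHom, MulAut.conj_apply]
    rw [← hg₀]
    calc g₀ * c * g₀⁻¹ * (g₀ * y * g₀⁻¹) = g₀ * (c * y) * g₀⁻¹ := by group
      _ = g₀ * (y * c) * g₀⁻¹ := by rw [h]
      _ = g₀ * y * g₀⁻¹ * (g₀ * c * g₀⁻¹) := by group
  have hKp' : IsPGroup 2 (K.subgroupOf C) :=
    hKp.of_injective (subgroupOfEquivOfLe hKC).toMonoidHom (subgroupOfEquivOfLe hKC).injective
  obtain ⟨Q, hQ⟩ := hKp'.exists_le_sylow
  obtain ⟨c, hc⟩ := MulAction.exists_smul_eq C Q (P.subtype hPC)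
  refine ⟨(c : G) * g₀, ?_, fun x hx hxy => ?_⟩
  · have h := mem_centralizer_singleton_iff.1 c.2
    calc (c : G) * g₀ * y * ((c : G) * g₀)⁻¹ = (c : G) * (g₀ * y * g₀⁻¹) * (c : G)⁻¹ := by group
      _ = D.z := by rw [hg₀, h, mul_inv_cancel_right]
  · have hxK : g₀ * x * g₀⁻¹ ∈ K :=
      ⟨x, mem_inf.2 ⟨hx, mem_centralizer_singleton_iff.2 hxy⟩, rfl⟩
    have h1 : (⟨_, hKC hxK⟩ : C) ∈ Q := hQ (mem_subgroupOf.2 hxK)
    have h2 : c * ⟨_, hKC hxK⟩ * c⁻¹ ∈ (P.subtype hPC : Subgroup C) := by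
      rw [← hc]
      exact ⟨_, h1, rfl⟩
    have h3 := mem_subgroupOf.1 h2
    simpa [mul_assoc] using h3

variable [IsSimpleGroup G]

include D in
theorem card_ge : 64 ≤ Nat.card G := by
  refine le_trans ?_ (Nat.le_of_dvd Nat.card_pos (P : Subgroup G).card_subgroup_dvd_card)
  rw [D.card]
  have := D.d_pos
  nlinarith

include D in
theorem no_index_two (M : Subgroup G) (hn : M.Normal) : M.index ≠ 2 := by
  intro h
  rcases hn.eq_bot_or_eq_top with rfl | rfl
  · rw [index_bot] at h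
    have := D.card_ge
    omega
  · rw [index_top] at h
    omega

/-- Some other conjugate of the central involution lies in the Sylow subgroup. -/
theorem exists_other : ∃ y ∈ (P : Subgroup G), y ≠ D.z ∧ IsConj D.z y := by
  by_contra hcon
  push Not at hcon
  obtain ⟨N, hN, hodd, hc⟩ := CfsgLib.ZStar.zstar_of_sylow P D.orderOf_z fun g hg => by
    by_contra hne
    exact hcon _ hg hne (isConj_iff.2 ⟨g, rfl⟩)
  rcases hN.eq_bot_or_eq_top with rfl | rfl
  · have hz : D.z ∈ center G := mem_center_iff.2 fun g =>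
      (mul_inv_eq_iff_eq_mul.1 (mul_inv_eq_one.1 (mem_bot.1 (hc g)))).symm
    rcases (inferInstance : (center G).Normal).eq_bot_or_eq_top with h | h
    · rw [h, mem_bot] at hz
      exact D.z_ne hz
    · have h' : D.s * D.t 1 0 = D.t 1 0 * D.s :=
        (mem_center_iff.1 (h ▸ mem_top (D.t 1 0) : D.t 1 0 ∈ center G) D.s)
      rw [D.s_t] at h'
      have h01 := (D.t_inj (mul_right_cancel h')).1
      have h11 := congrArg D.par h01
      rw [map_zero, map_one] at h11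
      exact zero_ne_one h11
  · rw [card_top] at hodd
    have h := (P : Subgroup G).card_subgroup_dvd_card
    rw [D.card] at h
    obtain ⟨k, hk⟩ := (dvd_mul_right 4 _).trans h
    obtain ⟨l, hl⟩ := hodd
    omega

/-- The subgroup `T ⟨x⟩`. -/
def mid (x : G) (hx : x * x = 1)
    (hxt : ∀ i j, ∃ k l, x * D.t i j = D.t k l * x) : Subgroup G where
  carrier := {g | (∃ i j, g = D.t i j) ∨ ∃ i j, g = D.t i j * x}
  one_mem' := Or.inl ⟨0, 0, D.t_zero.symm⟩
  mul_mem' := by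
    rintro _ _ (⟨i, j, rfl⟩ | ⟨i, j, rfl⟩) (⟨k, l, rfl⟩ | ⟨k, l, rfl⟩)
    · exact Or.inl ⟨_, _, D.t_mul i j k l⟩
    · exact Or.inr ⟨_, _, D.t_t_assoc i j k l x⟩
    · obtain ⟨k', l', h'⟩ := hxt k l
      exact Or.inr ⟨i + k', j + l', by rw [mul_assoc, h', D.t_t_assoc]⟩
    · obtain ⟨k', l', h'⟩ := hxt k l
      exact Or.inl ⟨i + k', j + l', by
        rw [mul_assoc, ← mul_assoc x, h', mul_assoc _ x x, hx, mul_one, D.t_mul]⟩
  inv_mem' := by
    rintro _ (⟨i, j, rfl⟩ | ⟨i, j, rfl⟩)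
    · exact Or.inl ⟨-i, -j, D.t_inv i j⟩
    · obtain ⟨k', l', h'⟩ := hxt (-i) (-j)
      exact Or.inr ⟨k', l', by
        rw [_root_.mul_inv_rev, inv_eq_of_mul_eq_one_right hx, D.t_inv, h']⟩

theorem mid_relIndex {x : G} (hx : x * x = 1) (hxt) (hxP : x ∈ (P : Subgroup G))
    (hne : ∀ i j k l, D.t i j * x ≠ D.t k l) :
    (D.mid x hx hxt).relIndex (P : Subgroup G) = 2 := by
  haveI : NeZero (4 * d) := ⟨by have := D.d_pos; omega⟩
  have hle : D.mid x hx hxt ≤ (P : Subgroup G) := by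
    rintro _ (⟨i, j, rfl⟩ | ⟨i, j, rfl⟩)
    exacts [D.t_mem _ _, mul_mem (D.t_mem _ _) hxP]
  let f : (ZMod (4 * d) × ZMod (4 * d)) ⊕ (ZMod (4 * d) × ZMod (4 * d)) → D.mid x hx hxt :=
    Sum.elim (fun p => ⟨D.t p.1 p.2, Or.inl ⟨_, _, rfl⟩⟩)
      (fun p => ⟨D.t p.1 p.2 * x, Or.inr ⟨_, _, rfl⟩⟩)
  have hf : Function.Bijective f := by
    refine ⟨?_, ?_⟩
    · rintro (⟨i, j⟩ | ⟨i, j⟩) (⟨k, l⟩ | ⟨k, l⟩) h <;>
        have h' := congrArg Subtype.val h <;> simp [f] at h'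
      · obtain ⟨rfl, rfl⟩ := D.t_inj h'
        rfl
      · exact absurd h'.symm (hne _ _ _ _)
      · exact absurd h' (hne _ _ _ _)
      · obtain ⟨rfl, rfl⟩ := D.t_inj h'
        rfl
    · rintro ⟨_, (⟨i, j, rfl⟩ | ⟨i, j, rfl⟩)⟩
      exacts [⟨Sum.inl (i, j), rfl⟩, ⟨Sum.inr (i, j), rfl⟩]
  have hc : Nat.card (D.mid x hx hxt) = 2 * (4 * d) ^ 2 := by
    rw [← Nat.card_congr (Equiv.ofBijective f hf)]
    simp [Nat.card_sum]
    ring
  have h := relIndex_mul_relIndex ⊥ _ _ bot_le hle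
  rw [relIndex_bot_left, relIndex_bot_left, D.card, hc] at h
  refine Nat.eq_of_mul_eq_mul_left (n := 2 * (4 * d) ^ 2) ?_ (h.trans (by ring))
  have := D.d_pos
  positivity

/-- An involution is conjugate into every subgroup of index two of the Sylow subgroup. -/
theorem transfer {x : G} (hx : x * x = 1) (hxt) (hxP : x ∈ (P : Subgroup G))
    (hne : ∀ i j k l, D.t i j * x ≠ D.t k l) {u : G} (hu : u * u = 1) :
    ∃ g, IsConj u g ∧ g ∈ D.mid x hx hxt := by
  have hodd : Odd (P : Subgroup G).index :=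
    Nat.not_even_iff_odd.1 fun h => P.not_dvd_index (even_iff_two_dvd.1 h)
  rcases CfsgLib.ThompsonTransfer.thompson_transfer _ _ hodd (D.mid_relIndex hx hxt hxP hne) hu
    with ⟨M, hM, hM2, -⟩ | ⟨g, hg⟩
  · exact absurd hM2 (D.no_index_two M hM)
  · exact ⟨_, isConj_iff.2 ⟨g, rfl⟩, hg⟩

/-- The involutions of `T` are conjugate. -/
theorem isConj_z_a : IsConj D.z D.a := by
  by_contra hna
  have hz2 : D.z * D.z = 1 := by rw [z, D.t_mul, D.h_add_h, D.t_zero]
  have inT : ∀ {i j}, IsConj D.z (D.t i j) → D.t i j = D.z := by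
    intro i j h
    obtain ⟨g, hg⟩ := isConj_iff.1 h
    rcases D.invol_t (fun e => D.z_ne (conj_eq_one_iff.1 (hg.trans e)))
      (by rw [← hg, show g * D.z * g⁻¹ * (g * D.z * g⁻¹) = g * (D.z * D.z) * g⁻¹ by group, hz2]
          group) with e | e | e
    · exact e
    · exact absurd (e ▸ h) hna
    · exact absurd ((e ▸ h : IsConj D.z (D.t 0 D.h)).trans D.isConj_a_b.symm) hna
  have conj_mem : ∀ {g c : G}, (g * c * g⁻¹) * (g * c * g⁻¹) = g * (c * c) * g⁻¹ :=
    fun {g c} => by group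
  -- no root of `z` centralises another conjugate of `z`
  have noRoot : ∀ {y k : G}, IsConj D.z y → k ∈ (P : Subgroup G) → k * y = y * k →
      k * k = D.z → y = D.z := by
    intro y k hy hk hky hkk
    obtain ⟨g, hgy, hg⟩ := D.exists_move hy
    obtain ⟨i, j, hij⟩ := D.sq_mem_t (hg k hk hky)
    rw [conj_mem, hkk] at hij
    have h := inT (i := i) (j := j) (hij ▸ isConj_iff.2 ⟨g, rfl⟩)
    exact mul_left_cancel (mul_right_cancel (hgy.trans (h.symm.trans hij.symm)))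
  have hs : ¬ IsConj D.z D.s := fun h => by
    have e := noRoot h (D.t_mem (d : ZMod (4 * d)) d) (by rw [D.s_t])
      (by rw [z, D.t_mul, Shape.h, ← Nat.cast_add, two_mul])
    exact D.el_ts_ne (i := 0) (j := 0) (k := D.h) (l := D.h) (by rw [D.t_zero, one_mul]; exact e)
  have hr : ¬ IsConj D.z (D.s * D.w) := fun h => by
    have e := noRoot h (D.t_mem (d : ZMod (4 * d)) (-d)) (by rw [D.sw_mul_t, neg_neg])
      (by rw [z, D.t_mul, ← neg_add, Shape.h, ← Nat.cast_add, two_mul, ← two_mul,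
            show ((2 * d : ℕ) : ZMod (4 * d)) = D.h from rfl, D.neg_h])
    exact D.el_tsw_ne (i := 0) (j := 0) (k := D.h) (l := D.h) (by rw [D.t_zero, one_mul]; exact e)
  have hk : D.t D.h 0 * D.s * (D.t D.h 0 * D.s) = D.z := by
    rw [D.sq_ts, add_zero, zero_add, z]
  have hkm : D.t D.h 0 * D.s ∈ (P : Subgroup G) := mul_mem (D.t_mem _ _) D.s_mem
  have hw : ¬ IsConj D.z D.w := fun h => by
    have e := noRoot h hkm
      (by rw [D.w_t_assoc, D.neg_h, neg_zero, D.sw, mul_assoc]) hk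
    exact D.el_tw_ne (i := 0) (j := 0) (k := D.h) (l := D.h) (by rw [D.t_zero, one_mul]; exact e)
  have hw' : ¬ IsConj D.z (D.t 1 1 * D.w) := fun h => by
    have e := noRoot h hkm
      (by
        simp only [mul_assoc, D.s_t_assoc, D.w_t_assoc, D.t_t_assoc, D.neg_h, neg_zero, D.sw]
        rw [add_comm (1 : ZMod (4 * d)) D.h, zero_add, add_zero]) hk
    exact D.el_tw_ne e
  -- the conjugates of `z` outside `T`
  have key : ∀ {y}, y ∈ (P : Subgroup G) → IsConj D.z y → y ≠ D.z →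
      ∃ p r, y = D.t p r * D.w ∧ D.par p ≠ D.par r := by
    intro y hy hzy hne
    obtain ⟨g, hg⟩ := isConj_iff.1 hzy
    rcases D.invol_cases hy (fun e => D.z_ne (conj_eq_one_iff.1 (hg.trans e)))
      (by rw [← hg, conj_mem, hz2]; group)
      with rfl | rfl | rfl | ⟨i, rfl⟩ | ⟨p, r, rfl⟩ | ⟨i, rfl⟩
    · exact absurd rfl hne
    · exact absurd hzy hna
    · exact absurd (hzy.trans D.isConj_a_b.symm) hna
    · exact absurd (hzy.trans (D.conj_ts i).symm) hs
    · rcases D.tw_cases p r with ⟨-, h | h⟩ | ⟨h, -⟩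
      · exact absurd (hzy.trans h.symm) hw
      · exact absurd (hzy.trans h.symm) hw'
      · exact ⟨p, r, rfl, h⟩
    · exact absurd (hzy.trans (D.conj_tsw i).symm) hr
  obtain ⟨y₀, hy₀, hne₀, hzy₀⟩ := D.exists_other
  obtain ⟨p₀, r₀, rfl, hpar₀⟩ := key hy₀ hzy₀ hne₀
  have hw10 : IsConj D.z (D.t 1 0 * D.w) := by
    rcases D.tw_cases p₀ r₀ with ⟨h, -⟩ | ⟨-, h⟩
    · exact absurd h hpar₀
    · exact hzy₀.trans h.symm
  have hodd_z : ∀ {p r}, D.par p ≠ D.par r → IsConj D.z (D.t p r * D.w) := by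
    intro p r hpr
    rcases D.tw_cases p r with ⟨h, -⟩ | ⟨-, h⟩
    · exact absurd h hpr
    · exact hw10.trans h
  obtain ⟨g, hgy, hg⟩ := D.exists_move hw10
  have hyP : D.t 1 0 * D.w ∈ (P : Subgroup G) := mul_mem (D.t_mem _ _) D.w_mem
  have hz' := hg _ D.z_mem (D.z_comm hyP)
  have hz'ne : g * D.z * g⁻¹ ≠ D.z := fun e =>
    D.el_tw_ne (mul_left_cancel (mul_right_cancel (hgy.trans e.symm)))
  obtain ⟨p, r, hpr, hpar⟩ := key hz' (isConj_iff.2 ⟨g, rfl⟩) hz'ne
  have ha' := hg D.a (D.t_mem _ _) (by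
    rw [a, D.t_t_assoc, mul_assoc, D.w_t, D.t_t_assoc, D.neg_h, neg_zero, add_comm D.h, add_comm (0 : ZMod (4 * d))])
  have hb' : g * D.t 0 D.h * g⁻¹ = g * D.a * g⁻¹ * (g * D.z * g⁻¹) := by
    rw [show g * D.a * g⁻¹ * (g * D.z * g⁻¹) = g * (D.a * D.z) * g⁻¹ by group, a, z, D.t_mul,
      D.h_add_h, zero_add]
  have hnb : ¬ IsConj D.z (g * D.t 0 D.h * g⁻¹) := fun h =>
    hna ((h.trans (isConj_iff.2 ⟨g, rfl⟩ : IsConj (D.t 0 D.h) _).symm).trans D.isConj_a_b.symm)
  have hb'1 : g * D.t 0 D.h * g⁻¹ ≠ 1 := fun e => D.h_ne (D.t_eq_one_iff.1 (conj_eq_one_iff.1 e)).2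
  have hb'2 : g * D.t 0 D.h * g⁻¹ * (g * D.t 0 D.h * g⁻¹) = 1 := by
    rw [conj_mem, D.t_mul, D.h_add_h, add_zero, D.t_zero]; group
  have hna' : ¬ IsConj D.z (g * D.a * g⁻¹) := fun h =>
    hna (h.trans (isConj_iff.2 ⟨g, rfl⟩ : IsConj D.a _).symm)
  rcases D.invol_cases ha' (fun e => D.h_ne (D.t_eq_one_iff.1 (conj_eq_one_iff.1 e)).1)
    (by rw [conj_mem, a, D.t_mul, D.h_add_h, add_zero, D.t_zero]; group)
    with e | e | e | ⟨i, e⟩ | ⟨i, j, e⟩ | ⟨i, e⟩
  · exact hna' (e ▸ IsConj.refl _)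
  · refine hnb ?_
    rw [hb', e, hpr, a, D.t_t_assoc]
    exact hodd_z (by simpa [map_add, D.par_h] using hpar)
  · refine hnb ?_
    rw [hb', e, hpr, D.t_t_assoc]
    exact hodd_z (by simpa [map_add, D.par_h] using hpar)
  · have h3 : D.t i (-i) * D.s * (D.t p r * D.w) = D.t (i + r) (-i + p) * (D.s * D.w) := by
      simp only [mul_assoc, D.s_t_assoc, D.t_t_assoc]
    rw [hb', e, hpr, h3] at hb'2
    rw [D.sq_tsw, D.t_eq_one_iff] at hb'2
    have h2 := congrArg D.par hb'2.1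
    simp only [map_sub, map_add, map_neg, map_zero] at h2
    exact hpar (by revert h2; generalize D.par p = x; generalize D.par r = y; generalize D.par i = v; decide +revert)
  · have hb'' : g * D.t 0 D.h * g⁻¹ = D.t (i + -p) (j + -r) := by
      rw [hb', e, hpr, mul_assoc, D.w_t_assoc, D.t_t_assoc, D.w_sq, mul_one]
    rw [hb''] at hb'1 hb'2 hnb
    have hij : D.par i = D.par j := by
      by_contra hne
      exact hna' (e ▸ hodd_z hne)
    rcases D.invol_t hb'1 hb'2 with e' | e' | e'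
    · exact hnb (e' ▸ IsConj.refl _)
    all_goals
      obtain ⟨h1, h2⟩ := D.t_inj e'
      replace h1 := congrArg D.par h1
      replace h2 := congrArg D.par h2
      simp only [map_add, map_neg, D.par_h, map_zero] at h1 h2
      exact hpar (by revert h1 h2 hij; generalize D.par p = x; generalize D.par r = y; generalize D.par i = v; generalize D.par j = v'; decide +revert)
  · rw [hb', e, hpr] at hb'2
    have h3 : D.t i i * (D.s * D.w) * (D.t p r * D.w) = D.t (i + -r) (i + -p) * D.s := by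
      rw [mul_assoc, mul_assoc D.s, D.w_t_assoc, D.w_sq, mul_one, D.s_t, D.t_t_assoc]
    rw [h3, D.sq_ts, D.t_eq_one_iff] at hb'2
    have h2 := congrArg D.par hb'2.1
    simp only [map_add, map_neg, map_zero] at h2
    exact hpar (by revert h2; generalize D.par p = x; generalize D.par r = y; generalize D.par i = v; decide +revert)

end Shape

end CfsgLib.GTwoFusion
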