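import Cfsg.Agent.GTwoFusion.Fusion
import Mathlib.GroupTheory.PGroup

/-!
At most two classes of involutions, and one when the Sylow subgroup has order above 64.
-/

set_option autoImplicit false
set_option linter.unusedSectionVars false
set_option linter.style.haveILetI false

namespace CfsgLib.GTwoFusion

open Subgroup

universe u

variable {G : Type u} [Group G] [Finite G] {P : Sylow 2 G} {d : ℕ} (D : Shape (P : Subgroup G) d)

/-- The elements carried into a set by conjugation from a fixed one. -/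
theorem card_transporter {K : Type*} [Group K] [Finite K] (x : K) (X : Set K)
    (hX : ∀ y ∈ X, IsConj x y) :
    Nat.card {g : K // g⁻¹ * x * g ∈ X} =
      Nat.card X * Nat.card (centralizer ({x} : Set K)) := by
  classical
  let f : {g : K // g⁻¹ * x * g ∈ X} → X := fun g => ⟨g.1⁻¹ * x * g.1, g.2⟩
  have hfib : ∀ y : X, Nat.card {g // f g = y} = Nat.card (centralizer ({x} : Set K)) := by
    rintro ⟨y, hy⟩
    obtain ⟨c, hc⟩ := isConj_iff.1 (hX y hy)
    refine Nat.card_congr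
      { toFun := fun g => ⟨g.1.1 * c, mem_centralizer_singleton_iff.2 ?_⟩
        invFun := fun k => ⟨⟨k.1 * c⁻¹, ?_⟩, ?_⟩
        left_inv := fun g => by ext; simp [mul_assoc]
        right_inv := fun k => by ext; simp [mul_assoc] }
    · have h : g.1.1⁻¹ * x * g.1.1 = y := congrArg Subtype.val g.2
      replace h := h.trans hc.symm
      calc g.1.1 * c * x = g.1.1 * (c * x * c⁻¹) * c := by group
        _ = g.1.1 * (g.1.1⁻¹ * x * g.1.1) * c := by rw [h]
        _ = x * (g.1.1 * c) := by group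
    · have h := mem_centralizer_singleton_iff.1 k.2
      rw [show (k.1 * c⁻¹)⁻¹ * x * (k.1 * c⁻¹) = c * ((k.1)⁻¹ * (x * k.1)) * c⁻¹ by group, ← h,
        inv_mul_cancel_left, hc]
      exact hy
    · refine Subtype.ext ?_
      show (k.1 * c⁻¹)⁻¹ * x * (k.1 * c⁻¹) = y
      have h := mem_centralizer_singleton_iff.1 k.2
      rw [show (k.1 * c⁻¹)⁻¹ * x * (k.1 * c⁻¹) = c * ((k.1)⁻¹ * (x * k.1)) * c⁻¹ by group, ← h,
        inv_mul_cancel_left, hc]
  rw [← Nat.card_congr (Equiv.sigmaFiberEquiv f)]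
  haveI : Fintype X := Fintype.ofFinite _
  rw [Nat.card_sigma, Finset.sum_congr rfl (fun y _ => hfib y), Finset.sum_const, Finset.card_univ,
    smul_eq_mul, Nat.card_eq_fintype_card (α := X)]

/-- A set invariant under a subgroup has size divisible by the order of the subgroup. -/
theorem card_dvd_of_invariant {A : Type*} [AddGroup A] [Finite A] (K : AddSubgroup A) (S : Set A)
    (h : ∀ x ∈ S, ∀ k ∈ K, x + k ∈ S) : Nat.card K ∣ Nat.card S := by
  let π : A → A ⧸ K := QuotientAddGroup.mk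
  have hS : S = π ⁻¹' (π '' S) := by
    refine Set.Subset.antisymm (Set.subset_preimage_image _ _) ?_
    rintro x ⟨y, hy, hxy⟩
    have h' := QuotientAddGroup.eq.1 hxy
    simpa using h y hy _ h'
  rw [hS, Nat.card_congr (QuotientAddGroup.preimageMkEquivAddSubgroupProdSet K (π '' S)),
    Nat.card_prod]
  exact dvd_mul_right _ _

namespace Shape

variable [IsSimpleGroup G]

theorem exists_mem_conj {x : G} (hx : x * x = 1) :
    ∃ y ∈ (P : Subgroup G), IsConj x y := by
  have hp : IsPGroup 2 (zpowers x) := by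
    have hd : orderOf x ∣ 2 ^ 1 := by
      rw [pow_one, orderOf_dvd_iff_pow_eq_one, pow_two, hx]
    obtain ⟨i, -, hi⟩ := (Nat.dvd_prime_pow Nat.prime_two).1 hd
    exact IsPGroup.of_card (n := i) (by rw [Nat.card_zpowers, hi])
  obtain ⟨Q, hQ⟩ := hp.exists_le_sylow
  obtain ⟨g, hg⟩ := MulAction.exists_smul_eq G Q P
  refine ⟨g * x * g⁻¹, ?_, isConj_iff.2 ⟨g, rfl⟩⟩
  rw [← hg]
  exact ⟨x, hQ (mem_zpowers x), rfl⟩

theorem s_ne : D.s ≠ 1 := fun e =>
  D.el_ts_ne (i := 0) (j := 0) (k := 0) (l := 0) (by rw [e, mul_one])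

theorem ts_invol (i : ZMod (4 * d)) :
    D.t i (-i) * D.s * (D.t i (-i) * D.s) = 1 := by
  rw [D.sq_ts, add_neg_cancel, neg_add_cancel, D.t_zero]

theorem sw_sq : D.s * D.w * (D.s * D.w) = 1 := by
  have h := D.sq_tsw 0 0
  rwa [sub_zero, D.t_zero, one_mul] at h

theorem sw_t (i j) : ∃ k l, D.s * D.w * D.t i j = D.t k l * (D.s * D.w) :=
  ⟨_, _, D.sw_mul_t i j⟩

/-- An involution other than one in `T` or `T s` is conjugate to one of them. -/
theorem conj_z_or_s {x : G} (h1 : x ≠ 1) (h2 : x * x = 1) : IsConj x D.z ∨ IsConj x D.s := by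
  obtain ⟨g, hxg, hg⟩ := D.transfer (x := D.s) D.s_sq (fun i j => ⟨_, _, D.s_t i j⟩) D.s_mem
    (fun i j k l => D.el_ts_ne) h2
  obtain ⟨c, hc⟩ := isConj_iff.1 hxg
  have hg1 : g ≠ 1 := fun e => h1 (conj_eq_one_iff.1 (hc.trans e))
  have hg2 : g * g = 1 := by
    rw [← hc, show c * x * c⁻¹ * (c * x * c⁻¹) = c * (x * x) * c⁻¹ by group, h2]
    group
  rcases hg with ⟨i, j, rfl⟩ | ⟨i, j, rfl⟩
  · rcases D.invol_t hg1 hg2 with e | e | e
    · exact Or.inl (e ▸ hxg)
    · exact Or.inl ((e ▸ hxg : IsConj x D.a).trans D.isConj_z_a.symm)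
    · exact Or.inl (((e ▸ hxg : IsConj x (D.t 0 D.h)).trans D.isConj_a_b.symm).trans
        D.isConj_z_a.symm)
  · rw [D.sq_ts, D.t_eq_one_iff] at hg2
    rw [eq_neg_of_add_eq_zero_right hg2.1] at hxg
    exact Or.inr (hxg.trans (D.conj_ts i).symm)

theorem s_conj_sw (h : ¬ IsConj D.s D.z) : IsConj D.s (D.s * D.w) := by
  obtain ⟨g, hxg, hg⟩ := D.transfer (x := D.s * D.w) D.sw_sq D.sw_t (mul_mem D.s_mem D.w_mem)
    (fun i j k l => D.el_tsw_ne) D.s_sq
  obtain ⟨c, hc⟩ := isConj_iff.1 hxg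
  have hg1 : g ≠ 1 := fun e => D.s_ne (conj_eq_one_iff.1 (hc.trans e))
  have hg2 : g * g = 1 := by
    rw [← hc, show c * D.s * c⁻¹ * (c * D.s * c⁻¹) = c * (D.s * D.s) * c⁻¹ by group, D.s_sq]
    group
  rcases hg with ⟨i, j, rfl⟩ | ⟨i, j, rfl⟩
  · rcases D.invol_t hg1 hg2 with e | e | e
    · exact absurd (e ▸ hxg) h
    · exact absurd ((e ▸ hxg : IsConj D.s D.a).trans D.isConj_z_a.symm) h
    · exact absurd (((e ▸ hxg : IsConj D.s (D.t 0 D.h)).trans D.isConj_a_b.symm).trans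
        D.isConj_z_a.symm) h
  · rw [D.sq_tsw, D.t_eq_one_iff] at hg2
    rw [← sub_eq_zero.1 hg2.1] at hxg
    exact hxg.trans (D.conj_tsw i).symm

/-- The centraliser of the swap in the Sylow subgroup. -/
theorem dvd_card_centralizer : 4 * (4 * d) ∣ Nat.card (centralizer ({D.s} : Set G)) := by
  haveI : NeZero (4 * d) := ⟨by have := D.d_pos; omega⟩
  let f : ZMod (4 * d) × (Fin 2 × Fin 2) →
      ↥((P : Subgroup G) ⊓ centralizer ({D.s} : Set G)) :=
    fun p => ⟨D.el ((p.1, p.1), p.2), mem_inf.2 ⟨D.el_mem _, mem_centralizer_singleton_iff.2 (by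
      obtain ⟨i, a, b⟩ := p
      show Commute (D.el ((i, i), (a, b))) D.s
      exact Commute.mul_left (D.s_t i i).symm
        (Commute.mul_left (Commute.pow_self D.s _) (Commute.pow_left D.sw _)))⟩⟩
  have hf : Function.Bijective f := by
    refine ⟨fun p p' h => ?_, fun g => ?_⟩
    · have := D.el_injective (congrArg Subtype.val h)
      simp only [Prod.mk.injEq, and_self] at this
      exact Prod.ext this.1 this.2
    · obtain ⟨hgP, hgC⟩ := mem_inf.1 g.2
      obtain ⟨i, j, a, b, hg⟩ := D.cover g.1 hgP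
      have h := mem_centralizer_singleton_iff.1 hgC
      rw [hg] at h
      have hx : (D.s ^ (a : ℕ) * D.w ^ (b : ℕ)) * D.s = D.s * (D.s ^ (a : ℕ) * D.w ^ (b : ℕ)) :=
        Commute.mul_left (Commute.pow_self D.s _) (Commute.pow_left D.sw _)
      rw [mul_assoc, hx, D.s_t_assoc, ← mul_assoc, ← mul_assoc (D.t j i)] at h
      have hij := (D.t_inj (mul_right_cancel (mul_right_cancel h))).1
      exact ⟨(i, a, b), Subtype.ext (by rw [hg, ← hij.symm.trans rfl]; rfl)⟩
  have hc : Nat.card ↥((P : Subgroup G) ⊓ centralizer ({D.s} : Set G)) = 4 * (4 * d) := by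
    rw [← Nat.card_congr (Equiv.ofBijective f hf)]
    simp [Nat.card_prod]
    ring
  exact hc ▸ card_dvd_of_le inf_le_right

/-- The order of the parity kernel. -/
theorem card_par_ker : Nat.card (AddMonoidHom.ker (D.par.toAddMonoidHom.prodMap
    D.par.toAddMonoidHom)) = (2 * d) ^ 2 := by
  haveI : NeZero (4 * d) := ⟨by have := D.d_pos; omega⟩
  set ψ := D.par.toAddMonoidHom.prodMap D.par.toAddMonoidHom
  have hs : Function.Surjective ψ :=
    (ZMod.ringHom_surjective D.par).prodMap (ZMod.ringHom_surjective D.par)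
  have h := ψ.ker.card_mul_index
  rw [AddSubgroup.index_ker, AddMonoidHom.range_eq_top.2 hs, AddSubgroup.card_top] at h
  rw [Nat.card_prod, Nat.card_prod, Nat.card_zmod, Nat.card_zmod] at h
  linarith [h, show (2 * d) ^ 2 * (2 * 2) = 4 * d * (4 * d) by ring]

/-- Above order 64 the swap is conjugate to the central involution. -/
theorem isConj_s_z (hd : 2 ∣ d) : IsConj D.s D.z := by
  classical
  haveI : NeZero (4 * d) := ⟨by have := D.d_pos; omega⟩
  by_contra hn
  have hr := D.s_conj_sw hn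
  set X := {g : G | g ∈ (P : Subgroup G) ∧ IsConj D.s g} with hX
  let W : Set (ZMod (4 * d) × ZMod (4 * d)) := {p | IsConj D.s (D.t p.1 p.2 * D.w)}
  let f : ZMod (4 * d) ⊕ ZMod (4 * d) ⊕ W → X :=
    Sum.elim (fun i => ⟨D.t i (-i) * D.s, mul_mem (D.t_mem _ _) D.s_mem, D.conj_ts i⟩)
      (Sum.elim
        (fun i => ⟨D.t i i * (D.s * D.w),
          mul_mem (D.t_mem _ _) (mul_mem D.s_mem D.w_mem), hr.trans (D.conj_tsw i)⟩)
        (fun p => ⟨D.t p.1.1 p.1.2 * D.w, mul_mem (D.t_mem _ _) D.w_mem, p.2⟩))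
  have hf : Function.Bijective f := by
    refine ⟨?_, ?_⟩
    · intro p p' h
      have hv : ∀ p, ∃ q, (f p : G) = D.el q ∧
          q = (match p with
            | Sum.inl i => ((i, -i), (1, 0))
            | Sum.inr (Sum.inl i) => ((i, i), (1, 1))
            | Sum.inr (Sum.inr w) => (w.1, (0, 1))) := by
        rintro (i | i | w) <;> exact ⟨_, by simp [f, el], rfl⟩
      obtain ⟨q, hq, hq'⟩ := hv p
      obtain ⟨q', hq₂, hq₂'⟩ := hv p'
      have := D.el_injective ((hq.symm.trans (congrArg Subtype.val h)).trans hq₂)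
      subst hq' hq₂'
      rcases p with i | i | ⟨w, hw⟩ <;> rcases p' with i' | i' | ⟨w', hw'⟩ <;> simp at this ⊢ <;>
        tauto
    · rintro ⟨g, hgP, hsg⟩
      obtain ⟨c, hc⟩ := isConj_iff.1 hsg
      have h2 : g * g = 1 := by
        rw [← hc, show c * D.s * c⁻¹ * (c * D.s * c⁻¹) = c * (D.s * D.s) * c⁻¹ by group, D.s_sq]
        group
      rcases D.invol_cases hgP (fun e => D.s_ne (conj_eq_one_iff.1 (hc.trans e))) h2 with
        rfl | rfl | rfl | ⟨i, rfl⟩ | ⟨p, r, rfl⟩ | ⟨i, rfl⟩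
      · exact absurd hsg hn
      · exact absurd (hsg.trans D.isConj_z_a.symm) hn
      · exact absurd ((hsg.trans D.isConj_a_b.symm).trans D.isConj_z_a.symm) hn
      · exact ⟨Sum.inl i, rfl⟩
      · exact ⟨Sum.inr (Sum.inr ⟨(p, r), hsg⟩), rfl⟩
      · exact ⟨Sum.inr (Sum.inl i), rfl⟩
  have hW : (2 * d) ^ 2 ∣ Nat.card W := by
    rw [← D.card_par_ker]
    refine card_dvd_of_invariant _ W fun p hp k hk => ?_
    rw [AddMonoidHom.mem_ker] at hk
    obtain ⟨hk1, hk2⟩ := Prod.mk.inj hk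
    rcases D.exists_half k.1 with ⟨-, a, ha⟩ | ⟨h, -⟩
    · rcases D.exists_half k.2 with ⟨-, b, hb⟩ | ⟨h, -⟩
      · show IsConj _ (D.t (p.1 + k.1) (p.2 + k.2) * D.w)
        rw [ha, hb]
        exact hp.trans (D.conj_tw p.1 p.2 a b)
      · exact absurd (hk2.symm.trans h) zero_ne_one
    · exact absurd (hk1.symm.trans h) zero_ne_one
  obtain ⟨e, he⟩ := hd
  have hXd : 2 * (4 * d) ∣ Nat.card X := by
    rw [← Nat.card_congr (Equiv.ofBijective f hf), Nat.card_sum, Nat.card_sum, Nat.card_zmod,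
      ← add_assoc, ← two_mul]
    refine dvd_add dvd_rfl (dvd_trans ?_ hW)
    exact ⟨e, by rw [he]; ring⟩
  haveI : Fact (Nat.Prime 2) := ⟨Nat.prime_two⟩
  have hp : IsPGroup 2 (zpowers D.s) := by
    refine IsPGroup.of_card (n := 1) ?_
    rw [Nat.card_zpowers, pow_one]
    exact orderOf_eq_prime (by rw [pow_two, D.s_sq]) D.s_ne
  have hN : ¬ 2 ∣ Nat.card (MulAction.fixedPoints (zpowers D.s) (G ⧸ (P : Subgroup G))) := by
    have h := hp.card_modEq_card_fixedPoints (G ⧸ (P : Subgroup G))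
    intro h2
    exact P.not_dvd_index ((h.dvd_iff dvd_rfl).2 h2)
  set F := MulAction.fixedPoints (zpowers D.s) (G ⧸ (P : Subgroup G)) with hF
  have hpre : ∀ g : G, g⁻¹ * D.s * g ∈ X ↔ (QuotientGroup.mk g : G ⧸ (P : Subgroup G)) ∈ F := by
    intro g
    have h1 : g⁻¹ * D.s * g ∈ X ↔ g⁻¹ * D.s * g ∈ (P : Subgroup G) :=
      ⟨fun h => h.1, fun h => ⟨h, isConj_iff.2 ⟨g⁻¹, by rw [inv_inv]⟩⟩⟩
    rw [h1, hF, MulAction.mem_fixedPoints]
    constructor
    · rintro h ⟨c, hc⟩
      obtain ⟨k, rfl⟩ := mem_zpowers_iff.1 hc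
      refine QuotientGroup.eq.2 ?_
      show (D.s ^ k * g)⁻¹ * g ∈ (P : Subgroup G)
      rw [show (D.s ^ k * g)⁻¹ * g = ((g⁻¹ * D.s * (g⁻¹)⁻¹) ^ k)⁻¹ by
        rw [conj_zpow]; group]
      exact inv_mem (zpow_mem (by simpa using h) k)
    · intro h
      have h' := QuotientGroup.eq.1 (h ⟨D.s, mem_zpowers _⟩).symm
      simpa [mul_assoc] using h'
  have hcount := card_transporter D.s X fun y hy => hy.2
  rw [Nat.card_congr (Equiv.subtypeEquivRight hpre)] at hcount
  have hpp : Nat.card {g : G // (QuotientGroup.mk g : G ⧸ (P : Subgroup G)) ∈ F} =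
      Nat.card (P : Subgroup G) * Nat.card F := by
    rw [← Nat.card_prod]
    exact Nat.card_congr (QuotientGroup.preimageMkEquivSubgroupProdSet (P : Subgroup G) F)
  rw [hpp, D.card] at hcount
  obtain ⟨x, hx⟩ := hXd
  obtain ⟨y, hy⟩ := D.dvd_card_centralizer
  rw [hx, hy] at hcount
  refine hN ⟨x * y, Nat.eq_of_mul_eq_mul_left (n := 4 * (4 * d) ^ 2) ?_ (hcount.trans (by ring))⟩
  have := D.d_pos
  positivity

include D in
/-- The classes of involutions. -/
theorem classes :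
    (∀ x y : G, orderOf x = 2 → orderOf y = 2 → IsConj x y) ∨
      (Nat.card (P : Subgroup G) = 64 ∧ ∃ x y : G, orderOf x = 2 ∧ orderOf y = 2 ∧ ¬ IsConj x y ∧
        ∀ z : G, orderOf z = 2 → IsConj z x ∨ IsConj z y) := by
  have hall : ∀ x : G, orderOf x = 2 → IsConj x D.z ∨ IsConj x D.s := fun x hx => by
    refine D.conj_z_or_s (fun e => ?_) ?_
    · rw [e, orderOf_one] at hx
      omega
    · rw [← pow_two, ← hx, pow_orderOf_eq_one]
  by_cases hsz : IsConj D.s D.z
  · refine Or.inl fun x y hx hy => ?_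
    have h : ∀ x : G, orderOf x = 2 → IsConj x D.z := fun x hx =>
      (hall x hx).elim id fun h => h.trans hsz
    exact (h x hx).trans (h y hy).symm
  · refine Or.inr ⟨?_, D.z, D.s, D.orderOf_z, orderOf_eq_prime (by rw [pow_two, D.s_sq]) D.s_ne,
      fun h => hsz h.symm, hall⟩
    have hdvd : d ∣ Nat.card (P : Subgroup G) := by
      rw [D.card]
      exact Dvd.intro (64 * d) (by ring)
    obtain ⟨n, hn⟩ := P.isPGroup'.exists_card_eq
    rw [hn] at hdvd
    obtain ⟨i, -, hi⟩ := (Nat.dvd_prime_pow Nat.prime_two).1 hdvd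
    rcases i with _ | i
    · rw [D.card, hi]
      norm_num
    · exact absurd (D.isConj_s_z (hi ▸ dvd_pow_self 2 i.succ_ne_zero)) hsz

end Shape

end CfsgLib.GTwoFusion
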