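import Cfsg.Agent.GTwoFusion.Shape

/-!
Building a shape from generators.
-/

set_option autoImplicit false
set_option linter.unusedSectionVars false
set_option linter.style.haveILetI false

namespace CfsgLib.GTwoFusion

open Subgroup

variable {G : Type*} [Group G]

/-- The word with given exponents. -/
def word {n : ℕ} (u v : G) (i j : ZMod n) : G := u ^ i.val * v ^ j.val

variable {d : ℕ} {u v s w : G}

theorem word_mul (hd : 0 < d) (huv : u * v = v * u) (hu : u ^ (4 * d) = 1) (hv : v ^ (4 * d) = 1)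
    (i j k l : ZMod (4 * d)) : word u v i j * word u v k l = word u v (i + k) (j + l) := by
  haveI : NeZero (4 * d) := ⟨by omega⟩
  rw [word, word, word, ZMod.val_add, ZMod.val_add, ← pow_eq_pow_mod _ hu, ← pow_eq_pow_mod _ hv,
    pow_add, pow_add]
  have h : Commute (u ^ k.val) (v ^ j.val) := Commute.pow_pow huv _ _
  rw [mul_assoc, ← mul_assoc (v ^ j.val), ← h.eq]
  simp only [mul_assoc]

theorem word_sum (hd : 0 < d) (huv : u * v = v * u) (hu : u ^ (4 * d) = 1) (hv : v ^ (4 * d) = 1)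
    (i j : ℕ) : word u v (i : ZMod (4 * d)) (j : ZMod (4 * d)) = u ^ i * v ^ j := by
  haveI : NeZero (4 * d) := ⟨by omega⟩
  rw [word, ZMod.val_natCast, ZMod.val_natCast, ← pow_eq_pow_mod _ hu, ← pow_eq_pow_mod _ hv]

/-- A shape from its generators. -/
theorem exists_shape (hd : 0 < d) (huv : u * v = v * u) (hu : u ^ (4 * d) = 1)
    (hv : v ^ (4 * d) = 1)
    (hinj : ∀ i j : ℕ, u ^ i * v ^ j = 1 → 4 * d ∣ i ∧ 4 * d ∣ j)
    (hs : s * s = 1) (hw : w * w = 1) (hsw : w * s = s * w)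
    (hsu : s * u = v * s) (hwu : w * u = u⁻¹ * w) (hwv : w * v = v⁻¹ * w) :
    ∃ (K : Subgroup G), Nonempty (Shape K d) ∧
      ∀ H : Subgroup G, u ∈ H → v ∈ H → s ∈ H → w ∈ H → K ≤ H := by
  haveI : NeZero (4 * d) := ⟨by omega⟩
  set t : ZMod (4 * d) → ZMod (4 * d) → G := word u v with ht
  have tm : ∀ i j k l, t i j * t k l = t (i + k) (j + l) := word_mul hd huv hu hv
  have t0 : t 0 0 = 1 := by simp [ht, word]
  have tinv : ∀ i j, (t i j)⁻¹ = t (-i) (-j) := fun i j =>
    inv_eq_of_mul_eq_one_right (by rw [tm, add_neg_cancel, add_neg_cancel]; exact t0)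
  have hsv : s * v = u * s := by
    calc s * v = s * (v * s) * s := by rw [mul_assoc, mul_assoc, hs, mul_one]
      _ = s * (s * u) * s := by rw [hsu]
      _ = u * s := by rw [← mul_assoc s, hs, one_mul]
  have st : ∀ i j, s * t i j = t j i * s := fun i j => by
    show s * (u ^ i.val * v ^ j.val) = u ^ j.val * v ^ i.val * s
    rw [(Commute.pow_pow huv j.val i.val).eq, mul_assoc, ← (SemiconjBy.pow_right hsv j.val).eq,
      ← mul_assoc, (SemiconjBy.pow_right hsu i.val).eq, mul_assoc]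
  have wt : ∀ i j, w * t i j = t (-i) (-j) * w := fun i j => by
    rw [← tinv]
    show w * (u ^ i.val * v ^ j.val) = (u ^ i.val * v ^ j.val)⁻¹ * w
    have c : Commute v⁻¹ u⁻¹ := (Commute.inv_inv huv).symm
    rw [_root_.mul_inv_rev, ← inv_pow, ← inv_pow, (c.pow_pow _ _).eq, ← mul_assoc,
      (SemiconjBy.pow_right hwu i.val).eq, mul_assoc, (SemiconjBy.pow_right hwv j.val).eq,
      ← mul_assoc]
  have tinj : ∀ i j, t i j = 1 → i = 0 ∧ j = 0 := fun i j h => by
    obtain ⟨h1, h2⟩ := hinj _ _ h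
    have e : ∀ i : ZMod (4 * d), 4 * d ∣ i.val → i = 0 := fun i hi => by
      rw [← ZMod.natCast_zmod_val i, ZMod.natCast_eq_zero_iff]
      exact hi
    exact ⟨e i h1, e j h2⟩
  have tinj' : ∀ i j k l, t i j = t k l → i = k ∧ j = l := fun i j k l h => by
    rw [← mul_inv_eq_one, tinv, tm] at h
    obtain ⟨h1, h2⟩ := tinj _ _ h
    exact ⟨by rwa [← sub_eq_add_neg, sub_eq_zero] at h1, by rwa [← sub_eq_add_neg, sub_eq_zero] at h2⟩
  have one_ne : (1 : ZMod (4 * d)) ≠ 0 := fun e => by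
    have := (ZMod.natCast_eq_zero_iff 1 (4 * d)).1 (by rw [Nat.cast_one]; exact e)
    have := Nat.le_of_dvd one_pos this
    omega
  have neg_one_ne : (-1 : ZMod (4 * d)) ≠ 1 := fun e => by
    have h2 : ((2 : ℕ) : ZMod (4 * d)) = 0 := by
      rw [Nat.cast_ofNat, ← one_add_one_eq_two]
      nth_rewrite 1 [← e]
      rw [neg_add_cancel]
    have := Nat.le_of_dvd two_pos ((ZMod.natCast_eq_zero_iff 2 (4 * d)).1 h2)
    omega
  -- the three outer elements are outside `T`
  have comm_t : ∀ {x : G}, (∃ i j, x = t i j) → x * t 1 0 = t 1 0 * x := by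
    rintro x ⟨i, j, rfl⟩
    rw [tm, tm, add_comm i, add_comm j]
  have hsT : ∀ i j, s ≠ t i j := fun i j e => by
    have h := comm_t ⟨i, j, e⟩
    rw [st] at h
    exact one_ne (tinj' _ _ _ _ (mul_right_cancel h)).1.symm
  have hwT : ∀ i j, w ≠ t i j := fun i j e => by
    have h := comm_t ⟨i, j, e⟩
    rw [wt] at h
    exact neg_one_ne (tinj' _ _ _ _ (mul_right_cancel h)).1
  have hswT : ∀ i j, s * w ≠ t i j := fun i j e => by
    have h := comm_t ⟨i, j, e⟩
    rw [mul_assoc, wt, ← mul_assoc s, st, mul_assoc] at h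
    have h1 := (tinj' _ _ _ _ (mul_right_cancel h)).1
    rw [neg_zero] at h1
    exact one_ne h1.symm
  let x : Fin 2 × Fin 2 → G := fun p => s ^ (p.1 : ℕ) * w ^ (p.2 : ℕ)
  let el : (ZMod (4 * d) × ZMod (4 * d)) × (Fin 2 × Fin 2) → G := fun p => t p.1.1 p.1.2 * x p.2
  -- the four group
  have xinv : ∀ p, x p * x p = 1 := by
    have hsw2 : s * w * (s * w) = 1 := by
      rw [mul_assoc, ← mul_assoc w, hsw, ← mul_assoc, ← mul_assoc, hs, one_mul, hw]
    rintro ⟨a, b⟩
    fin_cases a <;> fin_cases b <;> simp [x, hs, hw, hsw2]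
  have xmul : ∀ p p' : Fin 2 × Fin 2, x p * x p' = x (p + p') := by
    have e1 : s * (s * w) = w := by rw [← mul_assoc, hs, one_mul]
    have e2 : w * (s * w) = s := by rw [← mul_assoc, hsw, mul_assoc, hw, mul_one]
    have e3 : s * w * s = w := by rw [mul_assoc, hsw, e1]
    have e4 : s * w * w = s := by rw [mul_assoc, hw, mul_one]
    rintro ⟨a, b⟩ ⟨a', b'⟩
    fin_cases a <;> fin_cases b <;> fin_cases a' <;> fin_cases b' <;>
      simp [x, hs, hw, hsw, e1, e2, e3, e4] <;> simpa [x] using xinv (1, 1)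
  have xmem : ∀ p, (∃ i j, x p = t i j) → p = 0 := by
    rintro ⟨a, b⟩ ⟨i, j, h⟩
    fin_cases a <;> fin_cases b <;> simp [x] at h
    · rfl
    · exact absurd h (hwT i j)
    · exact absurd h (hsT i j)
    · exact absurd h (hswT i j)
  have elinj : Function.Injective el := by
    rintro ⟨⟨i, j⟩, p⟩ ⟨⟨k, l⟩, p'⟩ h
    have h1 : x (p + p') = t (-i + k) (-j + l) := by
      rw [← tm, ← tinv, ← xmul]
      show x p * x p' = _
      calc x p * x p' = (t i j)⁻¹ * (t i j * x p) * x p' := by rw [inv_mul_cancel_left]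
        _ = (t i j)⁻¹ * (t k l * x p') * x p' := by rw [show t i j * x p = t k l * x p' from h]
        _ = (t i j)⁻¹ * t k l := by simp only [mul_assoc, xinv, mul_one]
    have hp := xmem _ ⟨_, _, h1⟩
    have hpp : p = p' := (show ∀ a b : Fin 2 × Fin 2, a + b = 0 → a = b by decide) p p' hp
    subst hpp
    obtain ⟨rfl, rfl⟩ := tinj' _ _ _ _ (mul_right_cancel (show t i j * x p = t k l * x p from h))
    rfl
  have xt : ∀ (p : Fin 2 × Fin 2) i j, ∃ k l, x p * t i j = t k l * x p := by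
    rintro ⟨a, b⟩ i j
    fin_cases a <;> fin_cases b <;> simp [x]
    · exact ⟨_, _, wt i j⟩
    · exact ⟨_, _, st i j⟩
    · exact ⟨_, _, by rw [mul_assoc, wt, ← mul_assoc s, st, mul_assoc]⟩
  let K : Subgroup G :=
    { carrier := Set.range el
      one_mem' := ⟨((0, 0), (0, 0)), by simp [el, x, t0]⟩
      mul_mem' := by
        rintro _ _ ⟨⟨⟨i, j⟩, p⟩, rfl⟩ ⟨⟨⟨k, l⟩, p'⟩, rfl⟩
        obtain ⟨k', l', h'⟩ := xt p k l
        refine ⟨((i + k', j + l'), p + p'), ?_⟩
        show t (i + k') (j + l') * x (p + p') = t i j * x p * (t k l * x p')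
        rw [← tm, ← xmul]
        calc t i j * t k' l' * (x p * x p') = t i j * (t k' l' * x p) * x p' := by
              simp only [mul_assoc]
          _ = t i j * (x p * t k l) * x p' := by rw [h']
          _ = t i j * x p * (t k l * x p') := by simp only [mul_assoc]
      inv_mem' := by
        rintro _ ⟨⟨⟨i, j⟩, p⟩, rfl⟩
        obtain ⟨k', l', h'⟩ := xt p (-i) (-j)
        refine ⟨((k', l'), p), ?_⟩
        show t k' l' * x p = (t i j * x p)⁻¹
        rw [_root_.mul_inv_rev, inv_eq_of_mul_eq_one_right (xinv p), tinv, h'] }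
  refine ⟨K, ⟨{
    t := t
    s := s
    w := w
    d_pos := hd
    t_mul := tm
    t_mem := fun i j => ⟨((i, j), (0, 0)), by simp [el, x]⟩
    s_mem := ⟨((0, 0), (1, 0)), by simp [el, x, t0]⟩
    w_mem := ⟨((0, 0), (0, 1)), by simp [el, x, t0]⟩
    s_sq := hs
    w_sq := hw
    sw := hsw
    s_t := st
    w_t := wt
    cover := fun g hg => by
      obtain ⟨⟨⟨i, j⟩, a, b⟩, rfl⟩ := hg
      exact ⟨i, j, a, b, rfl⟩
    card := by
      show Nat.card (Set.range el) = _
      rw [Nat.card_range_of_injective elinj]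
      simp [Nat.card_prod]
      ring }⟩, ?_⟩
  rintro H hu' hv' hs' hw' _ ⟨⟨⟨i, j⟩, p⟩, rfl⟩
  exact mul_mem (mul_mem (pow_mem hu' _) (pow_mem hv' _))
    (mul_mem (pow_mem hs' _) (pow_mem hw' _))

/-- Transport along an injective homomorphism. -/
def Shape.map {H : Type*} [Group H] {K : Subgroup G} (D : Shape K d) (φ : G →* H)
    (hφ : Function.Injective φ) : Shape (K.map φ) d where
  t i j := φ (D.t i j)
  s := φ D.s
  w := φ D.w
  d_pos := D.d_pos
  t_mul i j k l := by rw [← map_mul, D.t_mul]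
  t_mem i j := mem_map_of_mem _ (D.t_mem i j)
  s_mem := mem_map_of_mem _ D.s_mem
  w_mem := mem_map_of_mem _ D.w_mem
  s_sq := by rw [← map_mul, D.s_sq, map_one]
  w_sq := by rw [← map_mul, D.w_sq, map_one]
  sw := by rw [← map_mul, D.sw, map_mul]
  s_t i j := by rw [← map_mul, D.s_t, map_mul]
  w_t i j := by rw [← map_mul, D.w_t, map_mul]
  cover := by
    rintro _ ⟨g, hg, rfl⟩
    obtain ⟨i, j, a, b, rfl⟩ := D.cover g hg
    exact ⟨i, j, a, b, by simp only [map_mul, map_pow]⟩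
  card := by rw [card_map_of_injective hφ, D.card]

/-- Pull a shape of a subgroup inside another subgroup back. -/
def Shape.comap {K L : Subgroup G} (D : Shape K d) (hKL : K ≤ L) : Shape (K.subgroupOf L) d where
  t i j := ⟨D.t i j, hKL (D.t_mem i j)⟩
  s := ⟨D.s, hKL D.s_mem⟩
  w := ⟨D.w, hKL D.w_mem⟩
  d_pos := D.d_pos
  t_mul i j k l := Subtype.ext (D.t_mul i j k l)
  t_mem i j := mem_subgroupOf.2 (D.t_mem i j)
  s_mem := mem_subgroupOf.2 D.s_mem
  w_mem := mem_subgroupOf.2 D.w_mem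
  s_sq := Subtype.ext D.s_sq
  w_sq := Subtype.ext D.w_sq
  sw := Subtype.ext D.sw
  s_t i j := Subtype.ext (D.s_t i j)
  w_t i j := Subtype.ext (D.w_t i j)
  cover := by
    rintro ⟨g, hgL⟩ hg
    obtain ⟨i, j, a, b, h⟩ := D.cover g (mem_subgroupOf.1 hg)
    exact ⟨i, j, a, b, Subtype.ext (by simpa using h)⟩
  card := by rw [Nat.card_congr (subgroupOfEquivOfLe hKL).toEquiv, D.card]

end CfsgLib.GTwoFusion
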