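import Mathlib

/-!
The shape of a Sylow 2-subgroup of `G₂(q)`, `q` odd: a homocyclic group of rank two extended by a
four group generated by a swap and the inversion.
-/

set_option autoImplicit false
set_option linter.unusedSectionVars false
set_option linter.style.haveILetI false

namespace CfsgLib.GTwoFusion

/-- A subgroup of order `4·(4d)²` of the shape `(Z × Z) : (2 × 2)` with `Z` cyclic of order `4d`. -/
structure Shape {G : Type*} [Group G] (P : Subgroup G) (d : ℕ) where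
  /-- The homocyclic part. -/
  t : ZMod (4 * d) → ZMod (4 * d) → G
  /-- The swap. -/
  s : G
  /-- The inversion. -/
  w : G
  d_pos : 0 < d
  t_mul : ∀ i j k l, t i j * t k l = t (i + k) (j + l)
  t_mem : ∀ i j, t i j ∈ P
  s_mem : s ∈ P
  w_mem : w ∈ P
  s_sq : s * s = 1
  w_sq : w * w = 1
  sw : w * s = s * w
  s_t : ∀ i j, s * t i j = t j i * s
  w_t : ∀ i j, w * t i j = t (-i) (-j) * w
  cover : ∀ g ∈ P, ∃ (i j : ZMod (4 * d)) (a b : Fin 2), g = t i j * (s ^ (a : ℕ) * w ^ (b : ℕ))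
  card : Nat.card P = 4 * (4 * d) ^ 2

/-- The element with given coordinates. -/
def Shape.el {G : Type*} [Group G] {P : Subgroup G} {d : ℕ} (D : Shape P d)
    (p : (ZMod (4 * d) × ZMod (4 * d)) × (Fin 2 × Fin 2)) : G :=
  D.t p.1.1 p.1.2 * (D.s ^ (p.2.1 : ℕ) * D.w ^ (p.2.2 : ℕ))

namespace Shape

variable {G : Type*} [Group G] {P : Subgroup G} {d : ℕ} (D : Shape P d)

theorem el_mem (p : (ZMod (4 * d) × ZMod (4 * d)) × (Fin 2 × Fin 2)) : D.el p ∈ P :=
  mul_mem (D.t_mem _ _) (mul_mem (pow_mem D.s_mem _) (pow_mem D.w_mem _))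

theorem el_injective : Function.Injective D.el := by
  haveI : NeZero (4 * d) := ⟨by have := D.d_pos; omega⟩
  haveI : Finite P := Nat.finite_of_card_ne_zero (by rw [D.card]; have := D.d_pos; positivity)
  let f : (ZMod (4 * d) × ZMod (4 * d)) × (Fin 2 × Fin 2) → P := fun p => ⟨D.el p, D.el_mem p⟩
  have hf : Function.Bijective f := by
    rw [Nat.bijective_iff_surjective_and_card]
    refine ⟨fun g => ?_, ?_⟩
    · obtain ⟨i, j, a, b, h⟩ := D.cover g.1 g.2
      exact ⟨((i, j), (a, b)), Subtype.ext h.symm⟩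
    · simp [D.card, Nat.card_prod]; ring
  exact fun p p' h => hf.1 (Subtype.ext h)

theorem t_zero : D.t 0 0 = 1 := by
  have h := D.t_mul 0 0 0 0
  rw [add_zero] at h
  exact mul_left_cancel (h.trans (mul_one _).symm)

theorem t_inv (i j) : (D.t i j)⁻¹ = D.t (-i) (-j) :=
  inv_eq_of_mul_eq_one_right (by rw [D.t_mul, add_neg_cancel, add_neg_cancel, D.t_zero])

theorem s_t_assoc (i j) (g : G) : D.s * (D.t i j * g) = D.t j i * (D.s * g) := by
  rw [← mul_assoc, D.s_t, mul_assoc]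

theorem w_t_assoc (i j) (g : G) : D.w * (D.t i j * g) = D.t (-i) (-j) * (D.w * g) := by
  rw [← mul_assoc, D.w_t, mul_assoc]

theorem t_t_assoc (i j k l) (g : G) : D.t i j * (D.t k l * g) = D.t (i + k) (j + l) * g := by
  rw [← mul_assoc, D.t_mul]

theorem ws_assoc (g : G) : D.w * (D.s * g) = D.s * (D.w * g) := by
  rw [← mul_assoc, D.sw, mul_assoc]

theorem s_s_assoc (g : G) : D.s * (D.s * g) = g := by
  rw [← mul_assoc, D.s_sq, one_mul]

theorem w_w_assoc (g : G) : D.w * (D.w * g) = g := by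
  rw [← mul_assoc, D.w_sq, one_mul]

theorem t_inj {i j k l} (h : D.t i j = D.t k l) : i = k ∧ j = l := by
  have := D.el_injective (a₁ := ((i, j), (0, 0))) (a₂ := ((k, l), (0, 0))) (by simp [el, h])
  simpa using this

theorem t_eq_one_iff {i j} : D.t i j = 1 ↔ i = 0 ∧ j = 0 :=
  ⟨fun h => D.t_inj (h.trans D.t_zero.symm), fun h => by rw [h.1, h.2, D.t_zero]⟩

theorem el_ts_ne {i j k l} : D.t i j * D.s ≠ D.t k l := fun h => by
  have := D.el_injective (a₁ := ((i, j), (1, 0))) (a₂ := ((k, l), (0, 0))) (by simp [el, h])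
  simp at this

theorem el_tw_ne {i j k l} : D.t i j * D.w ≠ D.t k l := fun h => by
  have := D.el_injective (a₁ := ((i, j), (0, 1))) (a₂ := ((k, l), (0, 0))) (by simp [el, h])
  simp at this

theorem el_tsw_ne {i j k l} : D.t i j * (D.s * D.w) ≠ D.t k l := fun h => by
  have := D.el_injective (a₁ := ((i, j), (1, 1))) (a₂ := ((k, l), (0, 0))) (by simp [el, h])
  simp at this

theorem cases {g : G} (hg : g ∈ P) : (∃ i j, g = D.t i j) ∨ (∃ i j, g = D.t i j * D.s) ∨
    (∃ i j, g = D.t i j * D.w) ∨ ∃ i j, g = D.t i j * (D.s * D.w) := by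
  obtain ⟨i, j, a, b, h⟩ := D.cover g hg
  fin_cases a <;> fin_cases b <;> simp at h
  · exact Or.inl ⟨i, j, h⟩
  · exact Or.inr (Or.inr (Or.inl ⟨i, j, h⟩))
  · exact Or.inr (Or.inl ⟨i, j, h⟩)
  · exact Or.inr (Or.inr (Or.inr ⟨i, j, h⟩))

/-- Half of the order. -/
def h (_ : Shape P d) : ZMod (4 * d) := (2 * d : ℕ)

theorem h_add_h : D.h + D.h = 0 := by
  rw [h, ← Nat.cast_add, show 2 * d + 2 * d = 4 * d by ring, ZMod.natCast_self]

theorem h_ne : D.h ≠ 0 := by
  rw [h, Ne, ZMod.natCast_eq_zero_iff]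
  intro e
  have := D.d_pos
  have := Nat.le_of_dvd (by omega) e
  omega

theorem neg_h : -D.h = D.h := neg_eq_of_add_eq_zero_left D.h_add_h

theorem two_cases {i : ZMod (4 * d)} (hi : i + i = 0) : i = 0 ∨ i = D.h := by
  haveI : NeZero (4 * d) := ⟨by have := D.d_pos; omega⟩
  obtain ⟨k, hk, rfl⟩ : ∃ k < 4 * d, (k : ZMod (4 * d)) = i :=
    ⟨i.val, i.val_lt, ZMod.natCast_zmod_val i⟩
  rw [← Nat.cast_add, ZMod.natCast_eq_zero_iff] at hi
  obtain ⟨c, hc⟩ := hi
  have : c = 0 ∨ c = 1 := by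
    rcases Nat.lt_or_ge c 2 with hlt | hge
    · omega
    · have : 4 * d * 2 ≤ 4 * d * c := Nat.mul_le_mul_left _ hge
      omega
  rcases this with rfl | rfl
  · exact Or.inl (by rw [show k = 0 by omega, Nat.cast_zero])
  · exact Or.inr (congrArg _ (show k = 2 * d by omega))

/-- The parity of a coordinate. -/
def par (_ : Shape P d) : ZMod (4 * d) →+* ZMod 2 :=
  ZMod.castHom (Dvd.intro (2 * d) (by ring)) (ZMod 2)

theorem par_h : D.par D.h = 0 := by
  rw [h, map_natCast, ZMod.natCast_eq_zero_iff]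
  exact dvd_mul_right 2 d

theorem exists_half (i : ZMod (4 * d)) :
    (D.par i = 0 ∧ ∃ k, i = k + k) ∨ D.par i = 1 ∧ ∃ k, i = 1 + (k + k) := by
  haveI : NeZero (4 * d) := ⟨by have := D.d_pos; omega⟩
  obtain ⟨k, rfl⟩ : ∃ k : ℕ, (k : ZMod (4 * d)) = i := ⟨i.val, ZMod.natCast_zmod_val i⟩
  rcases Nat.even_or_odd' k with ⟨l, rfl | rfl⟩
  · refine Or.inl ⟨?_, l, by push_cast; ring⟩
    rw [map_natCast, ZMod.natCast_eq_zero_iff]
    exact dvd_mul_right 2 l
  · refine Or.inr ⟨?_, l, by push_cast; ring⟩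
    rw [map_natCast, Nat.cast_add, Nat.cast_mul, show ((2 : ℕ) : ZMod 2) = 0 from rfl, zero_mul,
      zero_add, Nat.cast_one]

/-- Products in normal form. -/
theorem sw_mul_t (i j) : D.s * D.w * D.t i j = D.t (-j) (-i) * (D.s * D.w) := by
  rw [mul_assoc, D.w_t, D.s_t_assoc]

theorem conj_t (k l) (i j) (x : G) :
    D.t k l * (D.t i j * x) * (D.t k l)⁻¹ = D.t (i + k) (j + l) * (x * D.t (-k) (-l)) := by
  rw [D.t_inv, D.t_t_assoc, add_comm k i, add_comm l j, mul_assoc]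

end Shape

end CfsgLib.GTwoFusion
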