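import Cfsg.Agent.Chev.G2OddCent
import Cfsg.Agent.Chev.TwistedA1

/-!
A diagonal element of `G₂(q)` acting on the two commuting copies of `SL₂(q)`.
-/

set_option autoImplicit false
set_option linter.style.haveILetI false

namespace CfsgLib.GTwoFusion

open CfsgLib.Chev Cfsg.Lie Matrix
open scoped MatrixGroups

variable {F : Type*} [Field F]

/-- Conjugation by `diag(u, 1)`. -/
def adj (u : Fˣ) (g : SL(2, F)) : SL(2, F) :=
  ⟨!![g 0 0, (u : F) * g 0 1; ((u⁻¹ : Fˣ) : F) * g 1 0, g 1 1], by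
    have h := RankOne.det_eq g
    rw [Matrix.det_fin_two_of]
    have hu : (u : F) * ((u⁻¹ : Fˣ) : F) = 1 := Units.mul_inv u
    linear_combination h - g 0 1 * g 1 0 * hu⟩

theorem coe_adj (u : Fˣ) (g : SL(2, F)) :
    (adj u g : Matrix (Fin 2) (Fin 2) F) =
      !![(u : F), 0; 0, 1] * (g : Matrix (Fin 2) (Fin 2) F) * !![((u⁻¹ : Fˣ) : F), 0; 0, 1] := by
  ext i j
  fin_cases i <;> fin_cases j <;> simp [adj, Matrix.mul_apply, Fin.sum_univ_two, Matrix.vecMul, dotProduct] <;> field_simp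

theorem adj_adj (u : Fˣ) (g : SL(2, F)) : adj u (adj u⁻¹ g) = g := by
  ext i j
  fin_cases i <;> fin_cases j <;> simp [adj]

theorem adj_mul (u : Fˣ) (g k : SL(2, F)) : adj u (g * k) = adj u g * adj u k := by
  apply Subtype.ext
  rw [Matrix.SpecialLinearGroup.coe_mul, coe_adj, coe_adj, coe_adj, Matrix.SpecialLinearGroup.coe_mul]
  set A : Matrix (Fin 2) (Fin 2) F := !![(u : F), 0; 0, 1]
  set B : Matrix (Fin 2) (Fin 2) F := !![((u⁻¹ : Fˣ) : F), 0; 0, 1]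
  have hBA : B * A = 1 := by
    ext i j; fin_cases i <;> fin_cases j <;> simp [A, B, Matrix.mul_apply, Fin.sum_univ_two]
  simp only [Matrix.mul_assoc]
  rw [← Matrix.mul_assoc B A, hBA, Matrix.one_mul]

section
variable {D : ChevalleyDatum} {T : Tab D} (G : T.Good)
include G

theorem hT_conj_hom (i : Fin D.rank) (c : Fin D.rank → Fˣ) (g : SL(2, F)) :
    T.hT F c * (G.rankOne F i).hom g * (T.hT F c)⁻¹ =
      (G.rankOne F i).hom (adj (T.chi (D.simple i) c) g) := by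
  set u := T.chi (F := F) (D.simple i) c
  set κ := (MulAut.conj (T.hT F c)).toMonoidHom
  have hX : ∀ t, κ ((G.rankOne F i).hom (RankOne.eX t)) =
      (G.rankOne F i).hom (adj u (RankOne.eX t)) := fun t => by
    have e : adj u (RankOne.eX t) = RankOne.eX ((u : F) * t) := by
      ext a b; fin_cases a <;> fin_cases b <;> simp [adj, RankOne.coe_eX]
    rw [e]
    show T.hT F c * (G.rankOne F i).phi _ * _ = (G.rankOne F i).phi _
    rw [RankOne.phi_eX, RankOne.phi_eX]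
    exact G.full.hT_conj (G.full.simple_lt i.isLt) c t
  have hH : ∀ a, κ ((G.rankOne F i).hom (RankOne.eH a)) =
      (G.rankOne F i).hom (adj u (RankOne.eH a)) := fun a => by
    have e : adj u (RankOne.eH a) = RankOne.eH a := by
      ext x y; fin_cases x <;> fin_cases y <;> simp [adj, RankOne.coe_eH]
    rw [e]
    show T.hT F c * (G.rankOne F i).phi _ * _ = (G.rankOne F i).phi _
    rw [RankOne.phi_eH]
    show T.hT F c * G.full.hr (D.simple i) (a : F) * _ = G.full.hr (D.simple i) (a : F)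
    rw [← G.full.hT_single, ← map_mul, mul_comm c, map_mul, mul_inv_cancel_right]
  have hN : κ ((G.rankOne F i).hom RankOne.eN) = (G.rankOne F i).hom (adj u RankOne.eN) := by
    have e : adj u RankOne.eN = RankOne.eH u * RankOne.eN := by
      ext x y; fin_cases x <;> fin_cases y <;>
        simp [adj, RankOne.coe_eH, RankOne.coe_eN, Matrix.SpecialLinearGroup.coe_mul]
    rw [e, map_mul (G.rankOne F i).hom]
    show T.hT F c * (G.rankOne F i).phi _ * _ = (G.rankOne F i).phi _ * (G.rankOne F i).phi _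
    rw [RankOne.phi_eN, RankOne.phi_eH]
    exact G.hT_conj_ns i c
  show κ ((G.rankOne F i).hom g) = _
  rcases RankOne.eq_product g with ⟨a, b, rfl⟩ | ⟨p, a, q, rfl⟩ <;>
    simp only [adj_mul, map_mul, hX, hH, hN]

end

theorem cart_vals : (G2Data.tab.cart 0 7, G2Data.tab.cart 1 7, G2Data.tab.cart 0 6,
    G2Data.tab.cart 1 6) = (2, -1, -3, 2) := by decide +kernel

theorem simple_vals : (chevG2.simple 0, chevG2.simple 1) = (7, 6) := by decide +kernel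

theorem vec_ext {e f : Fin chevG2.rank → Fˣ} (h0 : e G2Odd.i0 = f G2Odd.i0)
    (h1 : e G2Odd.i1 = f G2Odd.i1) : e = f := by
  funext i
  have hi : (i : ℕ) < 2 := i.isLt
  rcases (show (i : ℕ) = 0 ∨ (i : ℕ) = 1 by omega) with h | h
  · rw [show i = G2Odd.i0 from Fin.ext h]; exact h0
  · rw [show i = G2Odd.i1 from Fin.ext h]; exact h1

theorem i1_ne_i0 : G2Odd.i1 ≠ G2Odd.i0 := fun e => one_ne_zero (congrArg Fin.val e)

theorem chi_short (e : Fin chevG2.rank → Fˣ) :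
    G2Data.tab.chi (chevG2.simple (G2Odd.i0 : ℕ)) e = e G2Odd.i0 ^ 2 * (e G2Odd.i1)⁻¹ := by
  obtain ⟨h1, h2, -, -⟩ : G2Data.tab.cart 0 7 = 2 ∧ G2Data.tab.cart 1 7 = -1 ∧
      G2Data.tab.cart 0 6 = -3 ∧ G2Data.tab.cart 1 6 = 2 := by simpa [Prod.ext_iff] using cart_vals
  obtain ⟨s1, -⟩ : chevG2.simple 0 = 7 ∧ chevG2.simple 1 = 6 := by
    simpa [Prod.ext_iff] using simple_vals
  show (∏ i : Fin 2, e i ^ G2Data.tab.cart i (chevG2.simple 0)) = _
  rw [Fin.prod_univ_two, s1]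
  show e G2Odd.i0 ^ G2Data.tab.cart 0 7 * e G2Odd.i1 ^ G2Data.tab.cart 1 7 = _
  rw [h1, h2, _root_.zpow_neg_one, zpow_ofNat]

theorem chi_long (e : Fin chevG2.rank → Fˣ) :
    G2Data.tab.chi (chevG2.simple (G2Odd.i1 : ℕ)) e = (e G2Odd.i0 ^ 3)⁻¹ * e G2Odd.i1 ^ 2 := by
  obtain ⟨-, -, h3, h4⟩ : G2Data.tab.cart 0 7 = 2 ∧ G2Data.tab.cart 1 7 = -1 ∧
      G2Data.tab.cart 0 6 = -3 ∧ G2Data.tab.cart 1 6 = 2 := by simpa [Prod.ext_iff] using cart_vals
  obtain ⟨-, s2⟩ : chevG2.simple 0 = 7 ∧ chevG2.simple 1 = 6 := by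
    simpa [Prod.ext_iff] using simple_vals
  show (∏ i : Fin 2, e i ^ G2Data.tab.cart i (chevG2.simple 1)) = _
  rw [Fin.prod_univ_two, s2]
  show e G2Odd.i0 ^ G2Data.tab.cart 0 6 * e G2Odd.i1 ^ G2Data.tab.cart 1 6 = _
  rw [h3, h4, _root_.zpow_neg, zpow_ofNat, zpow_ofNat]

/-- The vector with both coordinates `c`. -/
def cv (c : Fˣ) : Fin chevG2.rank → Fˣ := fun _ => c

/-- The diagonal element. -/
noncomputable def hh (c : Fˣ) : GL chevG2.Idx F := G2Data.tab.hT F (cv c)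

theorem hh_mem (c : Fˣ) : hh c ∈ chevG2.group F :=
  good_G2.diagonal_le_group (by rw [good_G2.full.diagonal_eq_range]; exact ⟨_, rfl⟩)

theorem hh_conj₁ (c : Fˣ) (g : SL(2, F)) :
    hh c * G2Odd.φ₁ F g * (hh c)⁻¹ = G2Odd.φ₁ F (adj c g) := by
  unfold hh G2Odd.φ₁
  rw [hT_conj_hom good_G2, chi_short]
  congr 2
  simp [cv, pow_two]

/-- The preimage of the diagonal vector under the Weyl element. -/
def cv' (c : Fˣ) : Fin chevG2.rank → Fˣ := fun i => if (i : ℕ) = 0 then c else c ^ 2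

theorem w_hT' (c : Fˣ) :
    G2Odd.w F * G2Data.tab.hT F (cv' c) = G2Data.tab.hT F (cv c) * G2Odd.w F := by
  have h0 := good_G2.ns_hT_eq (F := F) G2Odd.i0 (cv' c)
  have h1 := good_G2.ns_hT_eq (F := F) G2Odd.i1 (cv' c)
  have e0 : cv' c * Pi.mulSingle G2Odd.i0
      (G2Data.tab.chi (chevG2.simple (G2Odd.i0 : ℕ)) (cv' c))⁻¹ = cv' c := by
    rw [chi_short]
    simp [cv']
  have e1 : cv' c * Pi.mulSingle G2Odd.i1
      (G2Data.tab.chi (chevG2.simple (G2Odd.i1 : ℕ)) (cv' c))⁻¹ = cv c := by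
    rw [chi_long]
    apply vec_ext <;> simp [cv, cv', Pi.mulSingle_eq_of_ne, i1_ne_i0, i1_ne_i0.symm, pow_two, pow_succ] <;> group
  rw [e0] at h0
  rw [e1] at h1
  rw [show G2Odd.w F = good_G2.full.ns F (G2Odd.i1 : ℕ) * good_G2.full.ns F (G2Odd.i0 : ℕ) from rfl,
    mul_assoc, h0, ← mul_assoc, h1, mul_assoc]

theorem hh_conj₂ (c : Fˣ) (g : SL(2, F)) :
    hh c * G2Odd.φ₂ F g * (hh c)⁻¹ = G2Odd.φ₂ F (adj c g) := by
  have e : hh c = G2Odd.w F * G2Data.tab.hT F (cv' c) * (G2Odd.w F)⁻¹ := by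
    rw [w_hT', mul_inv_cancel_right]; rfl
  show hh c * (G2Odd.w F * (good_G2.rankOne F G2Odd.i1).hom g * (G2Odd.w F)⁻¹) * _ =
    G2Odd.w F * (good_G2.rankOne F G2Odd.i1).hom (adj c g) * (G2Odd.w F)⁻¹
  have h := hT_conj_hom good_G2 G2Odd.i1 (cv' c) g
  rw [chi_long, show (cv' c G2Odd.i0 ^ 3)⁻¹ * cv' c G2Odd.i1 ^ 2 = c by simp [cv']; group] at h
  rw [← h, e]
  group

theorem φ₂_eH (c : Fˣ) :
    G2Odd.φ₂ F (RankOne.eH c) = G2Data.tab.hT F (fun i => if (i : ℕ) = 0 then c else c ^ 2) := by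
  show G2Odd.w F * (good_G2.rankOne F G2Odd.i1).phi _ * (G2Odd.w F)⁻¹ = _
  rw [RankOne.phi_eH]
  show G2Odd.w F * good_G2.full.hr (chevG2.simple (G2Odd.i1 : ℕ)) (c : F) * _ = _
  rw [← good_G2.full.hT_single (i := G2Odd.i1)]
  have h0 := good_G2.ns_hT_eq (F := F) G2Odd.i0 (Pi.mulSingle G2Odd.i1 c)
  have e0 : Pi.mulSingle G2Odd.i1 c * Pi.mulSingle G2Odd.i0
      (G2Data.tab.chi (chevG2.simple (G2Odd.i0 : ℕ)) (Pi.mulSingle G2Odd.i1 c))⁻¹ = cv c := by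
    rw [chi_short]
    apply vec_ext <;> simp [cv, cv', Pi.mulSingle_eq_of_ne, i1_ne_i0, i1_ne_i0.symm, pow_two, pow_succ] <;> group
  rw [e0] at h0
  have h1 := good_G2.ns_hT_eq (F := F) G2Odd.i1 (cv c)
  have e1 : cv c * Pi.mulSingle G2Odd.i1
      ((G2Data.tab.chi (chevG2.simple (G2Odd.i1 : ℕ)) (cv c))⁻¹ : Fˣ) =
      fun i : Fin chevG2.rank => if (i : ℕ) = 0 then c else c ^ 2 := by
    rw [chi_long]
    apply vec_ext <;> simp [cv, cv', Pi.mulSingle_eq_of_ne, i1_ne_i0, i1_ne_i0.symm, pow_two, pow_succ] <;> group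
  rw [e1] at h1
  rw [show G2Odd.w F = good_G2.full.ns F (G2Odd.i1 : ℕ) * good_G2.full.ns F (G2Odd.i0 : ℕ) from rfl,
    mul_assoc (good_G2.full.ns F (G2Odd.i1 : ℕ)), h0, ← mul_assoc (good_G2.full.ns F _), h1]
  group

theorem hh_sq (c : Fˣ) :
    hh c * hh c = G2Odd.φ₁ F (RankOne.eH c) * G2Odd.φ₂ F (RankOne.eH c) := by
  rw [φ₂_eH]
  show G2Data.tab.hT F (cv c) * G2Data.tab.hT F (cv c) = (good_G2.rankOne F G2Odd.i0).phi _ * _
  rw [RankOne.phi_eH]
  show _ = good_G2.full.hr (chevG2.simple (G2Odd.i0 : ℕ)) (c : F) * _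
  rw [← good_G2.full.hT_single (i := G2Odd.i0), ← map_mul, ← map_mul]
  congr 1
  apply vec_ext <;> simp [cv, Pi.mulSingle_eq_of_ne, i1_ne_i0, pow_two]

end CfsgLib.GTwoFusion
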