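import Cfsg.Agent.GTwoFusion.Mk
import Cfsg.Agent.GTwoFusion.Torus
import Cfsg.Agent.Classical.SylowTwoSL
import Cfsg.Agent.SL2C.SylowTwo
import Cfsg.Agent.Chev.G2Sections
import Cfsg.Agent.S1059

/-!
A Sylow 2-subgroup of `G₂(q)`, `q` odd, has the shape `(Z × Z) : (2 × 2)`.

With `x` generating the torus part of a Sylow subgroup of `SL₂(q)` and `c = 2 + tr x`, the element
`c⁻¹ (1 + x)²` is `x`; so a diagonal element of `G₂(q)` twisted by `diag(c, 1)⁻¹ (1 + x)` in both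
copies of `SL₂(q)` is a square root of the diagonal pair `(x, x)`.
-/

set_option autoImplicit false
set_option linter.unusedSectionVars false
set_option linter.style.haveILetI false

namespace CfsgLib.GTwoFusion

open CfsgLib.Chev Cfsg.Lie Matrix
open scoped MatrixGroups

variable {F : Type*} [Field F]

/-- The product of the two copies. -/
noncomputable def Φ (a b : SL(2, F)) : GL chevG2.Idx F := G2Odd.φ₁ F a * G2Odd.φ₂ F b

theorem Φ_mul (a b a' b' : SL(2, F)) : Φ a b * Φ a' b' = Φ (a * a') (b * b') := by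
  rw [Φ, Φ, Φ, map_mul, map_mul]
  calc _ = G2Odd.φ₁ F a * (G2Odd.φ₂ F b * G2Odd.φ₁ F a') * G2Odd.φ₂ F b' := by
        simp only [mul_assoc]
    _ = G2Odd.φ₁ F a * (G2Odd.φ₁ F a' * G2Odd.φ₂ F b) * G2Odd.φ₂ F b' := by
        rw [(G2Odd.commute a' b).eq]
    _ = _ := by simp only [mul_assoc]

theorem Φ_one : Φ (1 : SL(2, F)) 1 = 1 := by rw [Φ, map_one, map_one, one_mul]

theorem Φ_inv (a b : SL(2, F)) : (Φ a b)⁻¹ = Φ a⁻¹ b⁻¹ :=
  inv_eq_of_mul_eq_one_right (by rw [Φ_mul, mul_inv_cancel, mul_inv_cancel, Φ_one])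

theorem Φ_pow (a b : SL(2, F)) : ∀ n : ℕ, Φ a b ^ n = Φ (a ^ n) (b ^ n)
  | 0 => by rw [pow_zero, pow_zero, pow_zero, Φ_one]
  | n + 1 => by rw [pow_succ, Φ_pow a b n, Φ_mul, pow_succ, pow_succ]

theorem Φ_mem (a b : SL(2, F)) : Φ a b ∈ chevG2.group F :=
  mul_mem (good_G2.hom_mem_group G2Odd.i0 a)
    (mul_mem (mul_mem G2Odd.w_mem (good_G2.hom_mem_group G2Odd.i1 b)) (inv_mem G2Odd.w_mem))

/-- The central element of `SL₂`. -/
abbrev zz (F : Type*) [Field F] : SL(2, F) := RankOne.eH (-1)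

theorem Φ_zz (h2 : (2 : F) ≠ 0) : Φ (zz F) (zz F) = 1 := by
  rw [Φ, G2Odd.φ₂_eH, ← G2Odd.φ₁_eH, ← map_mul, (G2Odd.eH_neg_one h2).1, map_one]

theorem Φ_inj (h2 : (2 : F) ≠ 0) {a b : SL(2, F)} (h : Φ a b = 1) :
    a = b ∧ (a = 1 ∨ a = zz F) := by
  have inj1 : Function.Injective (G2Odd.φ₁ F) :=
    good_G2.hom_injective InvolData.scG2 G2Odd.i0
  have inj2 : Function.Injective (G2Odd.φ₂ F) := fun a b e =>
    good_G2.hom_injective InvolData.scG2 G2Odd.i1 ((MulAut.conj (G2Odd.w F)).injective e)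
  have e : G2Odd.φ₁ F a = G2Odd.φ₂ F b⁻¹ := by
    rw [map_inv]; exact eq_inv_of_mul_eq_one_left h
  have hc := G2Odd.central_eq (a := a) fun k => inj1 (by
    rw [map_mul, map_mul, e]
    exact (G2Odd.commute k b⁻¹).eq.symm)
  refine ⟨?_, hc⟩
  rcases hc with rfl | rfl
  · rw [map_one, eq_comm, ← map_one (G2Odd.φ₂ F)] at e
    rw [inv_eq_one.1 (inj2 e)]
  · rw [G2Odd.φ₁_eH, ← G2Odd.φ₂_eH] at e
    rw [← _root_.inv_inj, inv_eq_of_mul_eq_one_left (G2Odd.eH_neg_one h2).1, ← inj2 e]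

/-- The lift of `1 + x`. -/
def lift (x : SL(2, F)) (c : Fˣ) (hc : (c : F) = 2 + x 0 0 + x 1 1) : SL(2, F) :=
  ⟨!![((c⁻¹ : Fˣ) : F) * (1 + x 0 0), ((c⁻¹ : Fˣ) : F) * x 0 1; x 1 0, 1 + x 1 1], by
    have h := RankOne.det_eq x
    have hu : (c : F) * ((c⁻¹ : Fˣ) : F) = 1 := Units.mul_inv c
    rw [Matrix.det_fin_two_of]
    linear_combination ((c⁻¹ : Fˣ) : F) * h + hu - ((c⁻¹ : Fˣ) : F) * hc⟩

section
variable (x y : SL(2, F)) (c : Fˣ) (hc : (c : F) = 2 + x 0 0 + x 1 1)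

theorem coe_lift : (lift x c hc : Matrix (Fin 2) (Fin 2) F) =
    !![((c⁻¹ : Fˣ) : F), 0; 0, 1] * (1 + (x : Matrix (Fin 2) (Fin 2) F)) := by
  ext i j
  fin_cases i <;> fin_cases j <;> simp [lift, Matrix.mul_apply, Fin.sum_univ_two]

theorem bmat : !![((c⁻¹⁻¹ : Fˣ) : F), 0; 0, 1] * !![((c⁻¹ : Fˣ) : F), 0; 0, 1] =
    (1 : Matrix (Fin 2) (Fin 2) F) := by
  ext i j
  fin_cases i <;> fin_cases j <;> simp [Matrix.mul_apply, Fin.sum_univ_two]

theorem lift_x : lift x c hc * x = adj c⁻¹ x * lift x c hc := by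
  apply Subtype.ext
  rw [Matrix.SpecialLinearGroup.coe_mul, Matrix.SpecialLinearGroup.coe_mul, coe_adj, coe_lift]
  generalize (x : Matrix (Fin 2) (Fin 2) F) = X
  simp only [Matrix.mul_assoc]
  rw [← Matrix.mul_assoc (!![((c⁻¹⁻¹ : Fˣ) : F), 0; 0, 1]), bmat, Matrix.one_mul]
  congr 1
  noncomm_ring

theorem lift_yx (h : x * (y * x) = y) : lift x c hc * (y * x) = adj c⁻¹ y * lift x c hc := by
  apply Subtype.ext
  rw [Matrix.SpecialLinearGroup.coe_mul, Matrix.SpecialLinearGroup.coe_mul,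
    Matrix.SpecialLinearGroup.coe_mul, coe_adj, coe_lift]
  have h' := congrArg (fun g : SL(2, F) => (g : Matrix (Fin 2) (Fin 2) F)) h
  simp only [Matrix.SpecialLinearGroup.coe_mul] at h'
  generalize (x : Matrix (Fin 2) (Fin 2) F) = X at h' ⊢
  generalize (y : Matrix (Fin 2) (Fin 2) F) = Y at h' ⊢
  simp only [Matrix.mul_assoc]
  rw [← Matrix.mul_assoc (!![((c⁻¹⁻¹ : Fˣ) : F), 0; 0, 1]), bmat, Matrix.one_mul]
  congr 1
  rw [Matrix.add_mul, h', Matrix.mul_add, Matrix.one_mul, Matrix.mul_one, add_comm]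

theorem lift_sq : RankOne.eH c * adj c⁻¹ (lift x c hc) * lift x c hc = x := by
  have hdet := RankOne.det_eq x
  set X := (x : Matrix (Fin 2) (Fin 2) F)
  have hX : (1 + X) * (1 + X) = (c : F) • X := by
    ext i j
    fin_cases i <;> fin_cases j <;>
      simp [X, Matrix.mul_apply, Fin.sum_univ_two, hc]
    · linear_combination -hdet
    · ring
    · ring
    · linear_combination -hdet
  apply Subtype.ext
  rw [Matrix.SpecialLinearGroup.coe_mul, Matrix.SpecialLinearGroup.coe_mul, coe_adj, coe_lift,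
    RankOne.coe_eH]
  simp only [Matrix.mul_assoc]
  rw [← Matrix.mul_assoc (!![((c⁻¹⁻¹ : Fˣ) : F), 0; 0, 1]), bmat, Matrix.one_mul, hX]
  ext i j
  fin_cases i <;> fin_cases j <;> simp [X, Matrix.mul_apply, Fin.sum_univ_two, Matrix.vecMul, dotProduct]

/-- The square root of the diagonal pair. -/
noncomputable def dd : GL chevG2.Idx F := hh c * Φ (lift x c hc) (lift x c hc)

theorem dd_mem : dd x c hc ∈ chevG2.group F := mul_mem (hh_mem c) (Φ_mem _ _)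

theorem hh_Φ (a b : SL(2, F)) : hh c * Φ a b = Φ (adj c a) (adj c b) * hh c := by
  rw [Φ, Φ, ← hh_conj₁, ← hh_conj₂]
  group

theorem dd_Φ (a b a' b' : SL(2, F)) (ha : lift x c hc * a = adj c⁻¹ a' * lift x c hc)
    (hb : lift x c hc * b = adj c⁻¹ b' * lift x c hc) :
    dd x c hc * Φ a b = Φ a' b' * dd x c hc := by
  rw [dd, mul_assoc, Φ_mul, ha, hb, ← Φ_mul, ← mul_assoc, hh_Φ, adj_adj, adj_adj, mul_assoc]

theorem dd_sq : dd x c hc * dd x c hc = Φ x x := by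
  have e : Φ (lift x c hc) (lift x c hc) * hh c =
      hh c * Φ (adj c⁻¹ (lift x c hc)) (adj c⁻¹ (lift x c hc)) := by
    rw [hh_Φ, adj_adj]
  rw [dd, mul_assoc, ← mul_assoc (Φ (lift x c hc) (lift x c hc)), e]
  rw [← mul_assoc, ← mul_assoc, hh_sq, show G2Odd.φ₁ F (RankOne.eH c) * G2Odd.φ₂ F (RankOne.eH c) =
    Φ (RankOne.eH c) (RankOne.eH c) from rfl, Φ_mul, Φ_mul, lift_sq]

end

theorem mem_zpowers_ne {G : Type*} [Group G] {x y a : G} {d : ℕ} (hx : orderOf x = 4 * d)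
    (hyx : SemiconjBy y x x⁻¹) (ha : a ∈ Subgroup.zpowers x) : a * (y * x) ≠ y * a := by
  obtain ⟨m, rfl⟩ := Subgroup.mem_zpowers_iff.1 ha
  intro h
  rw [(hyx.zpow_right m).eq, hyx.eq, ← mul_assoc, _root_.inv_zpow, mul_left_inj,
    mul_inv_eq_iff_eq_mul, eq_inv_mul_iff_mul_eq, ← _root_.zpow_add] at h
  have h1 : x ^ (m + m - 1) = 1 := by
    rw [_root_.zpow_sub, h, _root_.zpow_one, mul_inv_cancel]
  have h2 := orderOf_dvd_iff_zpow_eq_one.2 h1
  rw [hx] at h2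
  have h4 : (4 : ℤ) ∣ m + m - 1 := dvd_trans ⟨d, by push_cast; ring⟩ h2
  omega

section
variable (h2 : (2 : F) ≠ 0) {d : ℕ} (x y : SL(2, F)) (hx : orderOf x = 4 * d)
  (hyx : SemiconjBy y x x⁻¹) (D : GL chevG2.Idx F)
  (hx1 : Commute D (Φ x 1)) (hy1 : D * Φ (y * x) 1 = Φ y 1 * D) (hsq : D * D = Φ x x)
include h2 hx hyx hx1 hy1 hsq

theorem not_odd (k j : ℕ) (h : D ^ (2 * k + 1) * Φ (x ^ j)⁻¹ 1 = 1) : False := by
  rw [pow_succ, pow_mul, pow_two, hsq, Φ_pow, mul_assoc] at h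
  have hD : D = Φ ((x ^ k)⁻¹ * x ^ j) (x ^ k)⁻¹ := by
    refine (mul_inv_cancel_right D (Φ (x ^ j)⁻¹ 1)).symm.trans ?_
    rw [eq_inv_of_mul_eq_one_right h, Φ_inv, Φ_inv, Φ_mul, inv_inv, inv_one, mul_one]
  generalize ha : (x ^ k)⁻¹ * x ^ j = a at hD
  generalize (x ^ k)⁻¹ = b at hD
  rw [hD, Φ_mul, Φ_mul, mul_one, one_mul] at hy1
  have h4 : Φ (a * (y * x) * (y * a)⁻¹) 1 = 1 := by
    rw [← mul_inv_cancel b, ← Φ_mul, ← Φ_inv, hy1, mul_inv_cancel]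
  refine mem_zpowers_ne hx hyx (a := a) ?_ (mul_inv_eq_one.1 (Φ_inj h2 h4).1)
  exact ha ▸ mul_mem (inv_mem (pow_mem (Subgroup.mem_zpowers x) k))
    (pow_mem (Subgroup.mem_zpowers x) j)

theorem inj_uv (i j : ℕ) (h : D ^ i * (D * Φ x⁻¹ 1) ^ j = 1) : 4 * d ∣ i ∧ 4 * d ∣ j := by
  have hDx : Commute D (Φ x⁻¹ 1) := by
    have := hx1.inv_right
    rwa [Φ_inv, inv_one] at this
  rw [hDx.mul_pow, ← mul_assoc, ← pow_add, Φ_pow, one_pow, inv_pow] at h
  rcases Nat.even_or_odd' (i + j) with ⟨k, hk | hk⟩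
  · rw [hk, pow_mul, pow_two, hsq, Φ_pow, Φ_mul, mul_one] at h
    obtain ⟨he, hcase⟩ := Φ_inj h2 h
    have hj : x ^ j = 1 := inv_eq_one.1 (mul_eq_left.1 he)
    have hjd : 4 * d ∣ j := hx ▸ orderOf_dvd_of_pow_eq_one hj
    rw [he] at hcase
    have hk2 : x ^ (2 * k) = 1 := by
      rcases hcase with e | e <;> rw [pow_mul', e, pow_two]
      · exact one_mul 1
      · exact (G2Odd.eH_neg_one h2).1
    have : 4 * d ∣ i + j := hk ▸ (hx ▸ orderOf_dvd_of_pow_eq_one hk2)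
    exact ⟨(Nat.dvd_add_left hjd).1 this, hjd⟩
  · rw [hk] at h
    exact (not_odd h2 x y hx hyx D hx1 hy1 hsq k j h).elim

end

theorem yd_facts (h2 : (2 : F) ≠ 0) {d : ℕ} {x y : SL(2, F)} (hyx : SemiconjBy y x x⁻¹)
    (hyy : y * y = zz F) (hxd : x ^ (2 * d) = zz F) :
    y * x ^ d * (y * x ^ d) = zz F ∧ y * x ^ d = zz F * (x ^ d * y) ∧
      y * (y * x ^ d) = zz F * (y * x ^ d * y) := by
  have hzc : ∀ g : SL(2, F), zz F * g = g * zz F := G2Odd.eH_neg_one_central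
  have hz2 : zz F * zz F = 1 := (G2Odd.eH_neg_one h2).1
  have hy : y * x ^ d = (x ^ d)⁻¹ * y := by rw [← inv_pow]; exact (hyx.pow_right d).eq
  have hinv : (x ^ d)⁻¹ = zz F * x ^ d := inv_eq_of_mul_eq_one_left (by
    rw [mul_assoc, ← pow_add, ← two_mul, hxd, hz2])
  have h3 : y * x ^ d = zz F * (x ^ d * y) := by rw [hy, hinv, mul_assoc]
  refine ⟨?_, h3, ?_⟩
  · nth_rewrite 1 [hy]
    rw [mul_assoc, ← mul_assoc y y, hyy, hzc, inv_mul_cancel_left]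
  · calc y * (y * x ^ d) = y * (zz F * (x ^ d * y)) := by rw [← h3]
      _ = (zz F * y) * (x ^ d * y) := by rw [← mul_assoc, ← hzc]
      _ = _ := by simp only [mul_assoc]

/-- The shape inside the matrix group. -/
theorem exists_shape_group (h2 : (2 : F) ≠ 0) {d : ℕ} (hd : 0 < d) (x y : SL(2, F))
    (hx : orderOf x = 4 * d) (hyx : SemiconjBy y x x⁻¹) (hyy : y * y = zz F)
    (hxd : x ^ (2 * d) = zz F) (D : GL chevG2.Idx F) (hDmem : D ∈ chevG2.group F)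
    (hx1 : Commute D (Φ x 1)) (hx2 : Commute D (Φ 1 x))
    (hy1 : D * Φ (y * x) 1 = Φ y 1 * D) (hy2 : D * Φ 1 (y * x) = Φ 1 y * D)
    (hsq : D * D = Φ x x) :
    ∃ K : Subgroup ↥(chevG2.group F), Nonempty (Shape K d) := by
  obtain ⟨hyd, hyd3, hyd2⟩ := yd_facts h2 hyx hyy hxd
  have hDx : Commute D (Φ x⁻¹ 1) := by
    have := hx1.inv_right
    rwa [Φ_inv, inv_one] at this
  have hxm : x ^ (4 * d) = 1 := hx ▸ pow_orderOf_eq_one x
  have huv : D * (D * Φ x⁻¹ 1) = D * Φ x⁻¹ 1 * D := ((Commute.refl D).mul_right hDx).eq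
  have hu : D ^ (4 * d) = 1 := by
    rw [show 4 * d = 2 * (2 * d) by ring, pow_mul, pow_two, hsq, Φ_pow, hxd, Φ_zz h2]
  have hv : (D * Φ x⁻¹ 1) ^ (4 * d) = 1 := by
    rw [hDx.mul_pow, hu, one_mul, Φ_pow, inv_pow, hxm, inv_one, one_pow, Φ_one]
  have hs : Φ (y * x ^ d) (x ^ d) * Φ (y * x ^ d) (x ^ d) = 1 := by
    rw [Φ_mul, hyd, ← pow_add, ← two_mul, hxd, Φ_zz h2]
  have hw : Φ y y * Φ y y = 1 := by rw [Φ_mul, hyy, Φ_zz h2]
  have hsw : Φ y y * Φ (y * x ^ d) (x ^ d) = Φ (y * x ^ d) (x ^ d) * Φ y y := by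
    rw [Φ_mul, Φ_mul, hyd2, hyd3, ← Φ_mul, Φ_zz h2, one_mul]
  have hyD : Φ y 1 * D = D * (Φ x⁻¹ 1 * Φ y 1) := by
    rw [← hy1, hyx.eq, Φ_mul, one_mul]
  have hy2D : Φ 1 y * D = D * (Φ 1 x⁻¹ * Φ 1 y) := by
    rw [← hy2, hyx.eq, Φ_mul, one_mul]
  have hxd1 : Commute D (Φ (x ^ d) (x ^ d)) := by
    have := (hx1.pow_right d).mul_right (hx2.pow_right d)
    rwa [Φ_pow, Φ_pow, Φ_mul, one_pow, mul_one, one_mul] at this
  have hs' : Φ (y * x ^ d) (x ^ d) = Φ y 1 * Φ (x ^ d) (x ^ d) := by rw [Φ_mul, one_mul]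
  have hsu : Φ (y * x ^ d) (x ^ d) * D = D * Φ x⁻¹ 1 * Φ (y * x ^ d) (x ^ d) := by
    rw [hs', mul_assoc, ← hxd1.eq, ← mul_assoc, hyD]
    simp only [mul_assoc]
  have hDinv : D⁻¹ = D * Φ x⁻¹ x⁻¹ := inv_eq_of_mul_eq_one_right (by
    rw [← mul_assoc, hsq, Φ_mul, mul_inv_cancel, Φ_one])
  have hwu : Φ y y * D = D⁻¹ * Φ y y := by
    have e : Φ y y = Φ y 1 * Φ 1 y := by rw [Φ_mul, mul_one, one_mul]
    calc Φ y y * D = Φ y 1 * (Φ 1 y * D) := by rw [e, mul_assoc]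
      _ = (Φ y 1 * D) * (Φ 1 x⁻¹ * Φ 1 y) := by rw [hy2D]; simp only [mul_assoc]
      _ = D * ((Φ x⁻¹ 1 * Φ y 1) * (Φ 1 x⁻¹ * Φ 1 y)) := by rw [hyD]; simp only [mul_assoc]
      _ = D * (Φ x⁻¹ x⁻¹ * Φ y y) := by simp only [Φ_mul, one_mul, mul_one]
      _ = _ := by rw [hDinv, mul_assoc]
  have hwv : Φ y y * (D * Φ x⁻¹ 1) = (D * Φ x⁻¹ 1)⁻¹ * Φ y y := by
    have h : y * x⁻¹ = x * y := by
      have := hyx.inv_right.eq
      rwa [inv_inv] at this
    have hc : Commute D⁻¹ (Φ x 1) := hx1.inv_left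
    rw [← mul_assoc, hwu, _root_.mul_inv_rev, Φ_inv, inv_inv, inv_one, mul_assoc, Φ_mul, h,
      mul_one, show Φ (x * y) y = Φ x 1 * Φ y y by rw [Φ_mul, one_mul], ← mul_assoc, hc.eq]
  obtain ⟨K, ⟨S⟩, hK⟩ :=
    exists_shape hd huv hu hv (inj_uv h2 x y hx hyx D hx1 hy1 hsq) hs hw hsw hsu hwu hwv
  exact ⟨_, ⟨S.comap (hK _ hDmem (mul_mem hDmem (Φ_mem _ _)) (Φ_mem _ _) (Φ_mem _ _))⟩⟩

section Finite
variable [Fintype F]

open CfsgLib.SL2C in
/-- A Sylow subgroup of `G₂(q)` has the shape. -/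
theorem exists_sylow_shape (hodd : Odd (Fintype.card F)) :
    ∃ (P : Sylow 2 ↥(chevG2.group F)) (d : ℕ),
      Nonempty (Shape (P : Subgroup ↥(chevG2.group F)) d) := by
  have h2 : (2 : F) ≠ 0 := CfsgLib.SL2C.two_ne_zero_of_odd hodd
  obtain ⟨S⟩ : Nonempty (Sylow 2 (SL F)) := inferInstance
  obtain ⟨T, x, y, h⟩ := exists_twoShape hodd S
  obtain ⟨d, hx⟩ := h.four
  have hxpos : 0 < orderOf x := orderOf_pos x
  have hd : 0 < d := by omega
  have hyx : SemiconjBy y x x⁻¹ := mul_inv_eq_iff_eq_mul.1 (h.hinv h.wN h.wT x h.yT)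
  have hneg : negOne F = zz F := by
    apply Subtype.ext
    show mt (negOne F) = _
    rw [mt_negOne, RankOne.coe_eH]
    ext i j
    fin_cases i <;> fin_cases j <;> simp
  have hyy : y * y = zz F := hneg ▸ h.sq_outer hodd h.wS h.wT
  have hxd : x ^ (2 * d) = zz F := by
    rcases center_cases (mem_center_of_mul_self hodd (g := x ^ (2 * d)) (by
      rw [← pow_add, show 2 * d + 2 * d = orderOf x by omega, pow_orderOf_eq_one])) with e | e
    · exfalso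
      have := Nat.le_of_dvd (by omega) (orderOf_dvd_of_pow_eq_one e)
      omega
    · rw [e, hneg]
  obtain ⟨e2, he2⟩ : ∃ e, 4 * d = 2 ^ e := by
    obtain ⟨k, hk⟩ := (IsPGroup.iff_orderOf.1 S.isPGroup') ⟨x, h.yS⟩
    exact ⟨k, by rw [← hx, ← hk, Subgroup.orderOf_mk]⟩
  have hc0 : 2 + x 0 0 + x 1 1 ≠ 0 := by
    intro e
    set X := (x : Matrix (Fin 2) (Fin 2) F) with hX
    have hdet := RankOne.det_eq x
    have hN : (1 + X) * (1 + X) = 0 := by
      ext i j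
      fin_cases i <;> fin_cases j <;> simp [hX, Matrix.mul_apply, Fin.sum_univ_two]
      · linear_combination x 0 0 * e - hdet
      · linear_combination x 0 1 * e
      · linear_combination x 1 0 * e
      · linear_combination x 1 1 * e - hdet
    have hpow : ∀ n : ℕ, (1 - (1 + X)) ^ n = 1 - (n : F) • (1 + X) := by
      intro n
      induction n with
      | zero => simp
      | succ n ih =>
        rw [pow_succ, ih, sub_mul, one_mul, Matrix.smul_mul, mul_sub, mul_one, hN, sub_zero,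
          Nat.cast_succ, add_smul, one_smul]
        abel
    have h4 : X ^ (4 * d) = 1 := by
      rw [hX, ← Matrix.SpecialLinearGroup.coe_pow, ← hx, pow_orderOf_eq_one,
        Matrix.SpecialLinearGroup.coe_one]
    have h5 : (1 - (1 + X)) ^ (4 * d) = 1 := by
      rw [sub_add_cancel_left, Even.neg_pow ⟨2 * d, by ring⟩, h4]
    rw [hpow, sub_eq_self, smul_eq_zero] at h5
    have hne : ((4 * d : ℕ) : F) ≠ 0 := by
      rw [he2, Nat.cast_pow, Nat.cast_ofNat]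
      exact pow_ne_zero _ h2
    have hx1 : x ^ 2 = 1 := by
      apply Subtype.ext
      rw [Matrix.SpecialLinearGroup.coe_pow, ← hX,
        eq_neg_of_add_eq_zero_right (h5.resolve_left hne), neg_sq, one_pow,
        Matrix.SpecialLinearGroup.coe_one]
    have := Nat.le_of_dvd two_pos (orderOf_dvd_of_pow_eq_one hx1)
    omega
  set c := Units.mk0 _ hc0 with hcdef
  have hc : (c : F) = 2 + x 0 0 + x 1 1 := rfl
  have hxx : lift x c hc * x = adj c⁻¹ x * lift x c hc := lift_x x c hc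
  have hl1 : lift x c hc * 1 = adj c⁻¹ 1 * lift x c hc := by
    have : adj c⁻¹ (1 : SL(2, F)) = 1 := by
      ext i j; fin_cases i <;> fin_cases j <;> simp [adj]
    rw [this, mul_one, one_mul]
  have hyl := lift_yx x y c hc (by rw [hyx.eq, mul_inv_cancel_left])
  obtain ⟨K, hK⟩ := exists_shape_group h2 hd x y hx hyx hyy hxd (dd x c hc) (dd_mem x c hc)
    (dd_Φ x c hc _ _ _ _ hxx hl1) (dd_Φ x c hc _ _ _ _ hl1 hxx)
    (dd_Φ x c hc _ _ _ _ hyl hl1) (dd_Φ x c hc _ _ _ _ hl1 hyl) (dd_sq x c hc)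
  obtain ⟨D⟩ := hK
  -- the orders
  have hq1 : 1 ≤ Fintype.card F := Fintype.card_pos
  set q := Fintype.card F with hq
  have hSL : q * (q ^ 2 - 1) = 2 ^ (e2 + 1) * (S : Subgroup (SL F)).index := by
    rw [show 2 ^ (e2 + 1) = Nat.card (S : Subgroup (SL F)) by rw [h.card, hx, he2, pow_succ'],
      Subgroup.card_mul_index, natCard_SL_factor, mul_comm (Fintype.card F - 1), ← Nat.sq_sub_sq, one_pow]
  have hodd' : Odd (S : Subgroup (SL F)).index := Nat.odd_iff.2 (by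
    have := S.not_dvd_index; omega)
  have hdvd : 2 ^ (e2 + 1) ∣ q ^ 2 - 1 :=
    (Nat.Coprime.pow_left _ (Nat.coprime_two_left.2 hodd)).dvd_of_dvd_mul_left ⟨_, hSL⟩
  obtain ⟨o, ho⟩ := hdvd
  have hoodd : Odd o := by
    have h' : q * o = (S : Subgroup (SL F)).index := by
      rw [ho, mul_left_comm] at hSL
      exact Nat.eq_of_mul_eq_mul_left (pow_pos two_pos _) hSL
    rw [← h'] at hodd'
    exact (Nat.odd_mul.1 hodd').2
  have hG : Nat.card ↥(chevG2.group F) = Nat.card K * (q ^ 6 * (q ^ 4 + q ^ 2 + 1) * (o * o)) := by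
    rw [Cfsg.Agent.S1059.result hq.symm, D.card]
    have h6 : q ^ 6 - 1 = (q ^ 2 - 1) * (q ^ 4 + q ^ 2 + 1) := by
      have e2 : 1 ≤ q ^ 2 := Nat.one_le_pow _ _ hq1
      have e6 : 1 ≤ q ^ 6 := Nat.one_le_pow _ _ hq1
      zify [e2, e6]
      ring
    rw [h6, ho, show 4 * (4 * d) ^ 2 = 2 ^ (e2 + 1) * 2 ^ (e2 + 1) by rw [he2]; ring]
    ring
  have hKp : IsPGroup 2 K := IsPGroup.of_card (n := (e2 + 1) + (e2 + 1)) (by
    rw [D.card, he2]; ring)
  have hidx : ¬ 2 ∣ K.index := by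
    have h0 := K.card_mul_index
    rw [hG] at h0
    rw [Nat.eq_of_mul_eq_mul_left Nat.card_pos h0]
    intro h'
    have h4 : Odd (q ^ 6 * (q ^ 4 + q ^ 2 + 1) * (o * o)) := by
      refine (hodd.pow.mul ?_).mul (hoodd.mul hoodd)
      exact (hodd.pow.add_odd hodd.pow).add_odd odd_one
    exact Nat.not_even_iff_odd.2 h4 (even_iff_two_dvd.2 h')
  exact ⟨hKp.toSylow hidx, d, ⟨D⟩⟩

/-- Every group with such Sylow subgroups has the shape. -/
theorem nonempty_shape {G : Type*} [Group G] [Finite G] (hodd : Odd (Fintype.card F))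
    (S : Sylow 2 G) (P : Sylow 2 ↥(chevG2.group F))
    (e : ↥(S : Subgroup G) ≃* ↥(P : Subgroup ↥(chevG2.group F))) :
    ∃ d, Nonempty (Shape (S : Subgroup G) d) := by
  obtain ⟨Q, d, ⟨D⟩⟩ := exists_sylow_shape hodd
  refine ⟨d, ?_⟩
  set e' : ↥(Q : Subgroup ↥(chevG2.group F)) ≃* ↥(S : Subgroup G) :=
    (Q.equiv P).trans e.symm
  have D' := (D.comap le_rfl).map ((S : Subgroup G).subtype.comp e'.toMonoidHom)
    ((Subgroup.subtype_injective _).comp e'.injective)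
  have hK : ((Q : Subgroup ↥(chevG2.group F)).subgroupOf (Q : Subgroup ↥(chevG2.group F))).map
      ((S : Subgroup G).subtype.comp e'.toMonoidHom) = (S : Subgroup G) := by
    rw [Subgroup.subgroupOf_self, ← MonoidHom.range_eq_map, MonoidHom.range_comp,
      MonoidHom.range_eq_top.2 e'.surjective, ← MonoidHom.range_eq_map, Subgroup.range_subtype]
  exact ⟨hK ▸ D'⟩

end Finite

end CfsgLib.GTwoFusion
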